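import Cfsg.Agent.H336.LinFour.Def
import Mathlib
import Cfsg.Agent.FixBN.FieldRGD
import Cfsg.Agent.OddHalf.NI.ModelChev
import Cfsg.Agent.OddHalf.NI.Mult.SL
import Cfsg.Agent.ClassicalGeometry.PSL2Basic
import Cfsg.Prelude.Def_ChevE8
import Cfsg.Prelude.Def_ChevStructure
import Cfsg.Agent.H557.ToralTypes
import Cfsg.Agent.S1065
import Cfsg.Agent.ChevFast.E8
import Cfsg.Agent.ChevFast.Lin
import Cfsg.Agent.FastGrp
import Cfsg.Agent.Prune
set_option linter.all false

section
prune_inst 0x7f00000000000000000000000000000000000000000000000000000000000000000000000000000000000000000000000000000000000000000000000000000000000000000000000000000000000000003fffffffffffffffffffffffffffbeffbdffffffff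

-- part: H336/LinFour/Equiv
section
set_option linter.all false
open scoped Cfsg.Agent.FastGrp

/-!
# Transport of `Sit`
-/

set_option autoImplicit false

namespace Cfsg.Agent.H336.LinFour

open Subgroup

/-- transport along an isomorphism -/
theorem Sit.equiv {K L : Type*} [Group K] [Group L] {th : V → K} {O K0 : Subgroup K} (h : Sit th O K0)
    (e : K ≃* L) : Sit (fun v => e (th v)) (O.map e.toMonoidHom) (K0.map e.toMonoidHom) where
  add u v := by rw [h.add, map_mul]
  inj u v huv := h.inj (e.injective huv)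
  odd := by
    rw [← Nat.card_congr (O.equivMapOfInjective _ e.injective).toEquiv]
    exact h.odd
  oc := by
    rintro _ ⟨x, hx, rfl⟩ v
    have := congrArg e (h.oc x hx v)
    rwa [map_mul, map_mul] at this
  oN := by
    rintro _ ⟨x, hx, rfl⟩ n hn
    obtain ⟨m, rfl⟩ := e.surjective n
    refine ⟨m * x * m⁻¹, h.oN x hx m fun v => ?_, by simp⟩
    obtain ⟨u, hu⟩ := hn v
    refine ⟨u, e.injective ?_⟩
    rw [← hu]; simp
  cent := by
    intro x hx
    obtain ⟨y, rfl⟩ := e.surjective x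
    obtain ⟨o, ho, v, rfl⟩ := h.cent y fun v => e.injective (by
      rw [map_mul, map_mul]; exact hx v)
    exact ⟨e o, ⟨o, ho, rfl⟩, v, map_mul _ _ _⟩
  k0 := by
    rintro _ ⟨k, hk, rfl⟩ v
    obtain ⟨u, hu⟩ := h.k0 k hk v
    exact ⟨u, by simp [← hu]⟩
  le := map_mono h.le
  k0c := by
    rintro _ ⟨k, hk, rfl⟩ hc
    refine ⟨k, h.k0c k hk fun v => e.injective ?_, rfl⟩
    rw [map_mul, map_mul]
    exact hc v
  full := by
    intro g
    obtain ⟨k, hk, hk'⟩ := h.full g
    exact ⟨e k, ⟨k, hk, rfl⟩, fun v => by rw [← hk' v]; simp⟩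

end Cfsg.Agent.H336.LinFour
end

-- part: H512/LinFour/FrameE8
section
set_option linter.all false
open scoped Cfsg.Agent.FastGrp

-- part: H512/LinFour/FrameA
section
/-!
# Frames of commuting `SL(2, F)`: order of the stabiliser
-/

set_option autoImplicit false

namespace Cfsg.Agent.H512.LinFour.FrameA

open Subgroup
open Cfsg.Agent.FixBN.FieldRGD (uu vv dd ww)
open scoped MatrixGroups

variable {G : Type*} [Group G] {F : Type*} [Field F]

/-- `n` commuting `SL(2, F)` and a torus -/
structure Fr {n : ℕ} (d : ℕ) (T : Subgroup G) (φ : Fin n → (SL(2, F) →* G)) : Prop where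
  inj : ∀ i, Function.Injective (φ i)
  comm : ∀ i j, i ≠ j → ∀ x y, φ i x * φ j y = φ j y * φ i x
  cardT : Nat.card T * d = (Nat.card F - 1) ^ n
  dd : ∀ i c hc, φ i (dd c hc) ∈ T
  up : ∀ t ∈ T, ∀ i a, ∃ b, t * φ i (uu a) * t⁻¹ = φ i (uu b)
  lo : ∀ t ∈ T, ∀ i a, ∃ b, t * φ i (vv a) * t⁻¹ = φ i (vv b)

/-- the diagonal subgroup -/
def ddH (F : Type*) [Field F] : Fˣ →* SL(2, F) where
  toFun c := dd (c : F) c.ne_zero
  map_one' := by
    apply Subtype.ext
    show !![((1 : Fˣ) : F), 0; 0, ((1 : Fˣ) : F)⁻¹] = 1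
    rw [Units.val_one, inv_one]
    ext i j; fin_cases i <;> fin_cases j <;> rfl
  map_mul' a b := by
    apply Subtype.ext
    show !![((a * b : Fˣ) : F), 0; 0, ((a * b : Fˣ) : F)⁻¹] =
      !![(a : F), 0; 0, (a : F)⁻¹] * !![(b : F), 0; 0, (b : F)⁻¹]
    rw [Matrix.mul_fin_two, Units.val_mul, mul_inv]
    congr 1
    ext i j; (revert i j; simp [_root_.Fin.forall_fin_succ])

theorem ddH_inj : Function.Injective (ddH F) := by
  intro a b hab
  apply Units.ext
  have h := congrArg (fun x : SL(2, F) => x.1 0 0) hab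
  exact h

/-- the diagonal matrices -/
def Dg (F : Type*) [Field F] : Subgroup SL(2, F) := (ddH F).range

theorem card_Dg [Finite F] : Nat.card (Dg F) = Nat.card F - 1 := by
  rw [← Nat.card_units]
  exact (Nat.card_congr (MonoidHom.ofInjective ddH_inj).toEquiv).symm

theorem mem_Dg_of {x : SL(2, F)} (h1 : ∃ b, x * uu 1 * x⁻¹ = uu b) (h2 : ∃ b, x * vv 1 * x⁻¹ = vv b) :
    x ∈ Dg F := by
  obtain ⟨b, hb⟩ := h1
  obtain ⟨b', hb'⟩ := h2
  rw [mul_inv_eq_iff_eq_mul] at hb hb'
  have e1 : (x.1 * !![1, 1; 0, 1] : Matrix (Fin 2) (Fin 2) F) = !![1, b; 0, 1] * x.1 := congrArg Subtype.val hb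
  have e2 : (x.1 * !![1, 0; 1, 1] : Matrix (Fin 2) (Fin 2) F) = !![1, 0; b', 1] * x.1 := congrArg Subtype.val hb'
  have h10 : x.1 1 0 = 0 := by
    have := congrFun (congrFun e1 1) 1
    simp only [Matrix.mul_apply, Fin.sum_univ_two, _root_.Fin.isValue, _root_.Matrix.of_apply, _root_.Matrix.cons_val', _root_.Matrix.cons_val_one, _root_.Matrix.cons_val_fin_one, _root_.Matrix.cons_val_zero, _root_.mul_one, _root_.MulZeroClass.zero_mul, _root_.one_mul, _root_.zero_add, _root_.add_eq_right] at this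
    exact this
  have h01 : x.1 0 1 = 0 := by
    have := congrFun (congrFun e2 0) 0
    simp only [Matrix.mul_apply, Fin.sum_univ_two, _root_.Fin.isValue, _root_.Matrix.of_apply, _root_.Matrix.cons_val', _root_.Matrix.cons_val_zero, _root_.Matrix.cons_val_fin_one, _root_.mul_one, _root_.Matrix.cons_val_one, _root_.one_mul, _root_.MulZeroClass.zero_mul, _root_.add_zero, _root_.add_eq_left] at this
    exact this
  have hdet : x.1 0 0 * x.1 1 1 = 1 := by
    have := x.2
    rw [Matrix.det_fin_two, h01, zero_mul, sub_zero] at this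
    exact this
  have h00 : x.1 0 0 ≠ 0 := left_ne_zero_of_mul_eq_one hdet
  refine ⟨Units.mk0 (x.1 0 0) h00, ?_⟩
  apply Subtype.ext
  show !![x.1 0 0, 0; 0, (x.1 0 0)⁻¹] = x.1
  have h11 : (x.1 0 0)⁻¹ = x.1 1 1 := (eq_inv_of_mul_eq_one_right hdet).symm
  rw [h11]
  ext i j
  fin_cases i <;> fin_cases j
  · rfl
  · exact h01.symm
  · exact h10.symm
  · rfl

variable {n d : ℕ} {T : Subgroup G} {φ : Fin n → (SL(2, F) →* G)}

theorem Fr.pw (h : Fr d T φ) : Pairwise fun i j => ∀ x y, Commute (φ i x) (φ j y) := fun i j hij x y => h.comm i j hij x y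

/-- the product map -/
def Fr.M (h : Fr d T φ) : (Fin n → SL(2, F)) →* G := MonoidHom.noncommPiCoprod φ h.pw

theorem Fr.M_single (h : Fr d T φ) (i : Fin n) (x : SL(2, F)) : h.M (Pi.mulSingle i x) = φ i x :=
  MonoidHom.noncommPiCoprod_mulSingle φ i x

theorem Fr.M_conj (h : Fr d T φ) (x : Fin n → SL(2, F)) (i : Fin n) (y : SL(2, F)) :
    h.M x * φ i y * (h.M x)⁻¹ = φ i (x i * y * (x i)⁻¹) := by
  rw [← h.M_single, ← h.M_single, ← map_mul, ← map_inv, ← map_mul]
  congr 1
  funext j
  by_cases hj : j = i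
  · subst hj; simp
  · simp [Pi.mulSingle_eq_of_ne hj]

theorem Fr.M_range (h : Fr d T φ) : h.M.range = ⨆ i, (φ i).range := MonoidHom.noncommPiCoprod_range φ

theorem Fr.comap (h : Fr d T φ) : T.comap h.M = Subgroup.pi Set.univ fun _ => Dg F := by
  ext x
  rw [mem_comap, Subgroup.mem_pi]
  constructor
  · intro hx i _
    obtain ⟨b, hb⟩ := h.up _ hx i 1
    obtain ⟨b', hb'⟩ := h.lo _ hx i 1
    rw [h.M_conj] at hb hb'
    exact mem_Dg_of ⟨b, h.inj i hb⟩ ⟨b', h.inj i hb'⟩
  · intro hx
    change MonoidHom.noncommPiCoprod φ h.pw x ∈ T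
    rw [MonoidHom.noncommPiCoprod_apply]
    refine Subgroup.noncommProd_mem T _ fun i _ => ?_
    obtain ⟨c, hc⟩ := hx i trivial
    rw [← hc]
    exact h.dd i c c.ne_zero

theorem card_pi_Dg [Finite F] (n : ℕ) :
    Nat.card (Subgroup.pi (Set.univ : Set (Fin n)) fun _ => Dg F : Subgroup (Fin n → SL(2, F))) =
      (Nat.card F - 1) ^ n := by
  let e : (Subgroup.pi (Set.univ : Set (Fin n)) fun _ => Dg F : Subgroup (Fin n → SL(2, F))) ≃ (Fin n → Dg F) :=
    { toFun := fun x i => ⟨x.1 i, x.2 i trivial⟩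
      invFun := fun x => ⟨fun i => (x i).1, fun i _ => (x i).2⟩
      left_inv := fun x => rfl
      right_inv := fun x => rfl }
  rw [Nat.card_congr e, Nat.card_fun, card_Dg]
  simp only [_root_.Nat.card_eq_fintype_card, _root_.Fintype.card_fin]

/-- conjugation by the torus -/
theorem Fr.T_range (h : Fr d T φ) [Finite F] {t : G} (ht : t ∈ T) (i : Fin n) :
    (φ i).range.map (MulAut.conj t).toMonoidHom = (φ i).range := by
  have key : ∀ t ∈ T, (φ i).range.map (MulAut.conj t).toMonoidHom ≤ (φ i).range := by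
    intro t ht
    rintro _ ⟨_, ⟨x, rfl⟩, rfl⟩
    have h3 : Subgroup.comap (φ i) (Subgroup.comap (MulAut.conj t).toMonoidHom (φ i).range) = ⊤ := by
      refine Cfsg.Agent.OddHalf.NI.Mult.mem_of_up_lo (fun b => ?_) (fun b => ?_)
      · obtain ⟨c, hc⟩ := h.up t ht i b
        exact ⟨uu c, hc.symm⟩
      · obtain ⟨c, hc⟩ := h.lo t ht i b
        exact ⟨vv c, hc.symm⟩
    have h4 : x ∈ Subgroup.comap (φ i) (Subgroup.comap (MulAut.conj t).toMonoidHom (φ i).range) := by
      rw [h3]; trivial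
    exact h4
  refine le_antisymm (key t ht) ?_
  intro x hx
  have h1 := key t⁻¹ (inv_mem ht) ⟨x, hx, rfl⟩
  refine ⟨_, h1, ?_⟩
  simp only [mul_assoc, _root_.MulEquiv.toMonoidHom_eq_coe, _root_.map_inv, _root_.MonoidHom.coe_coe, _root_.MulAut.inv_apply, _root_.MulAut.conj_symm_apply, _root_.MulAut.conj_apply, _root_.mul_inv_cancel_left, _root_.mul_inv_cancel, _root_.mul_one]

theorem Fr.M_range_conj (h : Fr d T φ) (x : Fin n → SL(2, F)) (i : Fin n) :
    (φ i).range.map (MulAut.conj (h.M x)).toMonoidHom = (φ i).range := by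
  ext g
  constructor
  · rintro ⟨_, ⟨y, rfl⟩, rfl⟩
    exact ⟨_, (h.M_conj x i y).symm⟩
  · rintro ⟨y, rfl⟩
    refine ⟨φ i ((x i)⁻¹ * y * x i), ⟨_, rfl⟩, ?_⟩
    refine (h.M_conj x i _).trans ?_
    congr 1
    group

theorem Fr.T_le (h : Fr d T φ) [Finite F] : T ≤ normalizer (h.M.range : Set G) := by
  have key : ∀ t ∈ T, ∀ x ∈ h.M.range, t * x * t⁻¹ ∈ h.M.range := by
    intro t ht x hx
    have h1 : h.M.range.map (MulAut.conj t).toMonoidHom ≤ h.M.range := by
      rw [h.M_range, Subgroup.map_iSup]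
      refine iSup_mono fun i => ?_
      rw [h.T_range ht i]
    exact h1 ⟨x, hx, rfl⟩
  intro t ht
  rw [mem_normalizer_iff]
  intro x
  refine ⟨key t ht x, fun hx => ?_⟩
  have h1 := key t⁻¹ (inv_mem ht) _ hx
  have h2 : t⁻¹ * (t * x * t⁻¹) * t⁻¹⁻¹ = x := by group
  rwa [h2] at h1

/-- **the order of the product of the frame and the torus** -/
theorem Fr.card_sup (h : Fr d T φ) [Finite F] [Finite G] :
    Nat.card (T ⊔ h.M.range : Subgroup G) * d = Nat.card SL(2, F) ^ n := by
  -- `|T : T ∩ M|`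
  have hn1 := Subgroup.normal_subgroupOf_of_le_normalizer h.T_le
  have hn2 := Subgroup.normal_subgroupOf_sup_of_le_normalizer h.T_le
  have e1 := Nat.card_congr (QuotientGroup.quotientInfEquivProdNormalizerQuotient T h.M.range h.T_le).toEquiv
  have c1 := card_eq_card_quotient_mul_card_subgroup (h.M.range.subgroupOf T)
  have c2 := card_eq_card_quotient_mul_card_subgroup (h.M.range.subgroupOf (T ⊔ h.M.range))
  have c3 : Nat.card (h.M.range.subgroupOf (T ⊔ h.M.range)) = Nat.card h.M.range :=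
    Nat.card_congr (subgroupOfEquivOfLe le_sup_right).toEquiv
  have c4 : Nat.card (h.M.range.subgroupOf T) = Nat.card (T.subgroupOf h.M.range) := by
    rw [Nat.card_congr ((h.M.range.subgroupOf T).equivMapOfInjective _ T.subtype_injective).toEquiv,
      Nat.card_congr ((T.subgroupOf h.M.range).equivMapOfInjective _ h.M.range.subtype_injective).toEquiv,
      subgroupOf_map_subtype, subgroupOf_map_subtype, inf_comm]
  have c5 := (T.subgroupOf h.M.range).card_mul_index
  have c6 : (T.subgroupOf h.M.range).index = (T.comap h.M).index := (Subgroup.index_comap T h.M).symm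
  have c7 := (T.comap h.M).card_mul_index
  rw [h.comap, card_pi_Dg, Nat.card_fun, Nat.card_fin] at c7
  rw [h.comap] at c6
  have hT := h.cardT
  have hpos : 0 < Nat.card (T.subgroupOf h.M.range) := Nat.card_pos
  rw [e1, c4] at c1
  rw [c3] at c2
  rw [c6] at c5
  -- `|T ⊔ M| * |T ∩ M| = |T| * |M| = |T| * |T ∩ M| * index`
  have c8 : Nat.card (T.subgroupOf h.M.range) * (Nat.card (T ⊔ h.M.range : Subgroup G) * d) =
      Nat.card (T.subgroupOf h.M.range) * Nat.card SL(2, F) ^ n := by
    rw [← c7, ← hT, c2, c1, ← c5]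
    ring
  exact Nat.eq_of_mul_eq_mul_left hpos c8

end Cfsg.Agent.H512.LinFour.FrameA
end

-- part: H512/LinFour/FrameB
section
/-!
# Frames of commuting `SL(2, F)`: the stabiliser and its permutation action
-/

set_option autoImplicit false

namespace Cfsg.Agent.H512.LinFour.FrameA

open Subgroup
open Cfsg.Agent.FixBN.FieldRGD (uu vv dd ww)
open scoped MatrixGroups

variable {G : Type*} [Group G] {F : Type*} [Field F] {n d : ℕ}

/-- `uu 1` and `vv 1` do not commute -/
theorem uu_vv_ne : (uu 1 : SL(2, F)) * vv 1 ≠ vv 1 * uu 1 := by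
  intro h
  have e : (!![1, 1; 0, 1] * !![1, 0; 1, 1] : Matrix (Fin 2) (Fin 2) F) = !![1, 0; 1, 1] * !![1, 1; 0, 1] :=
    congrArg Subtype.val h
  have := congrFun (congrFun e 0) 0
  simp [Matrix.mul_apply, Fin.sum_univ_two] at this

/-- the element `g` permutes the components as `σ` -/
def IsPerm (φ : Fin n → (SL(2, F) →* G)) (g : G) (σ : Equiv.Perm (Fin n)) : Prop :=
  ∀ i, (φ i).range.map (MulAut.conj g).toMonoidHom = (φ (σ i)).range

variable {T : Subgroup G} {φ : Fin n → (SL(2, F) →* G)}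

theorem Fr.range_inj (h : Fr d T φ) {i j : Fin n} (hij : (φ i).range = (φ j).range) : i = j := by
  by_contra hne
  have h1 : φ i (uu 1) ∈ (φ j).range := by rw [← hij]; exact ⟨_, rfl⟩
  obtain ⟨x, hx⟩ := h1
  have h2 := h.comm i j hne (vv 1) x
  rw [hx, ← map_mul, ← map_mul] at h2
  exact uu_vv_ne (h.inj i h2).symm

theorem Fr.perm_unique (h : Fr d T φ) {g : G} {σ τ : Equiv.Perm (Fin n)} (h1 : IsPerm φ g σ) (h2 : IsPerm φ g τ) :
    σ = τ := by
  ext1 i
  apply h.range_inj
  rw [← h1 i, h2 i]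

theorem isPerm_one : IsPerm φ 1 1 := by
  intro i
  rw [map_one]
  exact Subgroup.map_id _

theorem map_conj_mul (H : Subgroup G) (a b : G) :
    H.map (MulAut.conj (a * b)).toMonoidHom = (H.map (MulAut.conj b).toMonoidHom).map (MulAut.conj a).toMonoidHom := by
  rw [Subgroup.map_map]
  congr 1
  ext x
  simp [mul_assoc]

theorem IsPerm.mul {a b : G} {σ τ : Equiv.Perm (Fin n)} (h1 : IsPerm φ a σ) (h2 : IsPerm φ b τ) :
    IsPerm φ (a * b) (σ * τ) := by
  intro i
  rw [map_conj_mul, h2 i, h1 (τ i)]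
  rfl

theorem IsPerm.inv {a : G} {σ : Equiv.Perm (Fin n)} (h1 : IsPerm φ a σ) : IsPerm φ a⁻¹ σ⁻¹ := by
  intro i
  have h2 := h1 (σ⁻¹ i)
  have h3 : σ (σ⁻¹ i) = i := Equiv.apply_symm_apply σ i
  rw [h3] at h2
  rw [← h2, ← map_conj_mul, inv_mul_cancel, map_one]
  exact Subgroup.map_id _

/-- the stabiliser of the frame -/
def NN (φ : Fin n → (SL(2, F) →* G)) : Subgroup G where
  carrier := {g | ∃ σ, IsPerm φ g σ}
  one_mem' := ⟨1, isPerm_one⟩
  mul_mem' := by
    rintro a b ⟨σ, h1⟩ ⟨τ, h2⟩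
    exact ⟨σ * τ, h1.mul h2⟩
  inv_mem' := by
    rintro a ⟨σ, h1⟩
    exact ⟨σ⁻¹, h1.inv⟩

theorem mem_NN {g : G} : g ∈ NN φ ↔ ∃ σ, IsPerm φ g σ := Iff.rfl

/-- the permutation action -/
noncomputable def Fr.pi (h : Fr d T φ) : NN φ →* Equiv.Perm (Fin n) :=
  MonoidHom.mk' (fun g => (mem_NN.1 g.2).choose) fun a b =>
    h.perm_unique (mem_NN.1 (a * b).2).choose_spec
      ((mem_NN.1 a.2).choose_spec.mul (mem_NN.1 b.2).choose_spec)

theorem Fr.pi_spec (h : Fr d T φ) (g : NN φ) : IsPerm φ (g : G) (h.pi g) := (mem_NN.1 g.2).choose_spec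

theorem Fr.pi_eq (h : Fr d T φ) {g : NN φ} {σ : Equiv.Perm (Fin n)} (hg : IsPerm φ (g : G) σ) : h.pi g = σ :=
  h.perm_unique (h.pi_spec g) hg

theorem Fr.mem_range (h : Fr d T φ) {g : G} {σ : Equiv.Perm (Fin n)} (hg : IsPerm φ g σ) : σ ∈ h.pi.range :=
  ⟨⟨g, σ, hg⟩, h.pi_eq hg⟩

theorem Fr.sup_le (h : Fr d T φ) [Finite F] : T ⊔ h.M.range ≤ NN φ := by
  apply _root_.sup_le
  · intro t ht
    exact ⟨1, fun i => h.T_range ht i⟩
  · rintro _ ⟨x, rfl⟩
    exact ⟨1, fun i => h.M_range_conj x i⟩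

theorem Fr.sup_le_ker (h : Fr d T φ) [Finite F] : (T ⊔ h.M.range).subgroupOf (NN φ) ≤ h.pi.ker := by
  have h1 : T ⊔ h.M.range ≤ h.pi.ker.map (NN φ).subtype := by
    apply _root_.sup_le
    · intro t ht
      have h2 : IsPerm φ t 1 := fun i => h.T_range ht i
      exact ⟨⟨t, 1, h2⟩, h.pi_eq h2, rfl⟩
    · rintro _ ⟨x, rfl⟩
      have h2 : IsPerm φ (h.M x) 1 := fun i => h.M_range_conj x i
      exact ⟨⟨h.M x, 1, h2⟩, h.pi_eq h2, rfl⟩
  intro x hx
  obtain ⟨y, hy, hyx⟩ := h1 hx
  have : y = x := Subtype.ext hyx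
  rwa [← this]

theorem Fr.dvd_card (h : Fr d T φ) [Finite F] [Finite G] {m : ℕ} (hn : m ∣ Nat.card h.pi.range) :
    m * Nat.card SL(2, F) ^ n ∣ Nat.card (NN φ) * d := by
  rw [Subgroup.card_eq_card_quotient_mul_card_subgroup h.pi.ker,
    Nat.card_congr (QuotientGroup.quotientKerEquivRange h.pi).toEquiv]
  rw [mul_assoc]
  refine Nat.mul_dvd_mul hn ?_
  rw [← h.card_sup, ← Nat.card_congr (subgroupOfEquivOfLe h.sup_le).toEquiv]
  exact Nat.mul_dvd_mul_right (card_dvd_of_le h.sup_le_ker) d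

/-! ### the permutations -/

/-- a permutation of `Fin 8` from a list -/
def mk8 (f g : Fin 8 → Fin 8) (h1 : ∀ i, g (f i) = i) (h2 : ∀ i, f (g i) = i) : Equiv.Perm (Fin 8) := ⟨f, g, h1, h2⟩

def pE1 : Equiv.Perm (Fin 8) := mk8 ![1, 0, 4, 5, 2, 3, 7, 6] ![1, 0, 4, 5, 2, 3, 7, 6] (by decide) (by decide)
def pE2 : Equiv.Perm (Fin 8) := mk8 ![2, 4, 0, 7, 1, 6, 5, 3] ![2, 4, 0, 7, 1, 6, 5, 3] (by decide) (by decide)
def pE3 : Equiv.Perm (Fin 8) := mk8 ![3, 5, 7, 0, 6, 1, 4, 2] ![3, 5, 7, 0, 6, 1, 4, 2] (by decide) (by decide)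
def pA : Equiv.Perm (Fin 8) := mk8 ![0, 1, 4, 3, 2, 5, 7, 6] ![0, 1, 4, 3, 2, 5, 7, 6] (by decide) (by decide)
def pB : Equiv.Perm (Fin 8) := mk8 ![0, 1, 2, 7, 4, 6, 5, 3] ![0, 1, 2, 7, 4, 6, 5, 3] (by decide) (by decide)

/-- the dihedral group -/
def dihFun : DihedralGroup 4 → Equiv.Perm (Fin 8)
  | .r i => (pA * pB) ^ i.val
  | .sr i => pA * (pA * pB) ^ i.val

theorem dih_mul : ∀ x y : DihedralGroup 4, dihFun (x * y) = dihFun x * dihFun y := by decide +kernel

theorem dih_inj : ∀ x : DihedralGroup 4, dihFun x = 1 → x = 1 := by decide +kernel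

def dih : DihedralGroup 4 →* Equiv.Perm (Fin 8) := MonoidHom.mk' dihFun dih_mul

theorem dih_injective : Function.Injective dih := (injective_iff_map_eq_one _).2 dih_inj

theorem dvd64 {P : Subgroup (Equiv.Perm (Fin 8))} (h1 : pE1 ∈ P) (h2 : pE2 ∈ P) (h3 : pE3 ∈ P) (hA : pA ∈ P)
    (hB : pB ∈ P) : 64 ∣ Nat.card P := by
  have e1 := MulAction.index_stabilizer P (0 : Fin 8)
  have e2 : MulAction.orbit P (0 : Fin 8) = Set.univ := by
    have key : ∀ g ∈ P, g 0 ∈ MulAction.orbit P (0 : Fin 8) := fun g hg => ⟨⟨g, hg⟩, rfl⟩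
    have k : ∀ i : Fin 8, ∃ g ∈ P, g 0 = i := by
      intro i
      fin_cases i
      · exact ⟨1, P.one_mem, rfl⟩
      · exact ⟨pE1, h1, rfl⟩
      · exact ⟨pE2, h2, rfl⟩
      · exact ⟨pE3, h3, rfl⟩
      · exact ⟨pE2 * pE1, P.mul_mem h2 h1, rfl⟩
      · exact ⟨pE3 * pE1, P.mul_mem h3 h1, rfl⟩
      · exact ⟨pE3 * (pE2 * pE1), P.mul_mem h3 (P.mul_mem h2 h1), rfl⟩
      · exact ⟨pE3 * pE2, P.mul_mem h3 h2, rfl⟩
    apply Set.eq_univ_of_forall
    intro i
    obtain ⟨g, hg, rfl⟩ := k i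
    exact key g hg
  rw [e2, Set.ncard_univ, Nat.card_fin] at e1
  have e3 := (MulAction.stabilizer P (0 : Fin 8)).card_mul_index
  rw [e1] at e3
  -- the dihedral group
  have hmem : ∀ x : DihedralGroup 4, dih x ∈ P := by
    intro x
    rcases x with i | i
    · exact P.pow_mem (P.mul_mem hA hB) _
    · exact P.mul_mem hA (P.pow_mem (P.mul_mem hA hB) _)
  have hfix : ∀ x : DihedralGroup 4, dih x 0 = 0 := by
    have : ∀ x : DihedralGroup 4, dihFun x 0 = 0 := by decide +kernel
    exact this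
  let f : DihedralGroup 4 →* P := dih.codRestrict P hmem
  have hf : Function.Injective f := fun a b hab => dih_injective (congrArg Subtype.val hab)
  have hle : f.range ≤ MulAction.stabilizer P (0 : Fin 8) := by
    rintro _ ⟨x, rfl⟩
    exact hfix x
  have e4 := card_dvd_of_le hle
  have e5 : Nat.card f.range = 8 := by
    rw [← Nat.card_congr (MonoidHom.ofInjective hf).toEquiv, Nat.card_eq_fintype_card, DihedralGroup.card]
  rw [e5] at e4
  rw [← e3]
  exact Nat.mul_dvd_mul e4 (dvd_refl 8)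

end Cfsg.Agent.H512.LinFour.FrameA
end

-- part: H512/LinFour/FrameC
section
/-!
# Frames of eight commuting `SL(2, q)`, `q ≡ 3 mod 4`: a large abelian subgroup of exponent four
-/

set_option autoImplicit false

namespace Cfsg.Agent.H512.LinFour.FrameA

open Subgroup
open Cfsg.Agent.FixBN.FieldRGD (uu vv dd ww)
open scoped MatrixGroups

variable {F : Type*} [Field F]

theorem entries {x y : SL(2, F)} : x = y ↔ x.1 0 0 = y.1 0 0 ∧ x.1 0 1 = y.1 0 1 ∧ x.1 1 0 = y.1 1 0 ∧ x.1 1 1 = y.1 1 1 := by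
  constructor
  · rintro rfl; exact ⟨rfl, rfl, rfl, rfl⟩
  · rintro ⟨h1, h2, h3, h4⟩
    apply Subtype.ext
    ext i j
    fin_cases i <;> fin_cases j
    · exact h1
    · exact h2
    · exact h3
    · exact h4

theorem neg_one_00 : (-1 : SL(2, F)).1 0 0 = -1 := by
  rw [Matrix.SpecialLinearGroup.coe_neg]; simp
theorem neg_one_01 : (-1 : SL(2, F)).1 0 1 = 0 := by
  rw [Matrix.SpecialLinearGroup.coe_neg]; simp
theorem neg_one_10 : (-1 : SL(2, F)).1 1 0 = 0 := by
  rw [Matrix.SpecialLinearGroup.coe_neg]; simp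
theorem neg_one_11 : (-1 : SL(2, F)).1 1 1 = -1 := by
  rw [Matrix.SpecialLinearGroup.coe_neg]; simp

theorem mul_00 (x y : SL(2, F)) : (x * y).1 0 0 = x.1 0 0 * y.1 0 0 + x.1 0 1 * y.1 1 0 := by
  rw [Matrix.SpecialLinearGroup.coe_mul, Matrix.mul_apply, Fin.sum_univ_two]
theorem mul_01 (x y : SL(2, F)) : (x * y).1 0 1 = x.1 0 0 * y.1 0 1 + x.1 0 1 * y.1 1 1 := by
  rw [Matrix.SpecialLinearGroup.coe_mul, Matrix.mul_apply, Fin.sum_univ_two]
theorem mul_10 (x y : SL(2, F)) : (x * y).1 1 0 = x.1 1 0 * y.1 0 0 + x.1 1 1 * y.1 1 0 := by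
  rw [Matrix.SpecialLinearGroup.coe_mul, Matrix.mul_apply, Fin.sum_univ_two]
theorem mul_11 (x y : SL(2, F)) : (x * y).1 1 1 = x.1 1 0 * y.1 0 1 + x.1 1 1 * y.1 1 1 := by
  rw [Matrix.SpecialLinearGroup.coe_mul, Matrix.mul_apply, Fin.sum_univ_two]

theorem det_eq (x : SL(2, F)) : x.1 0 0 * x.1 1 1 - x.1 0 1 * x.1 1 0 = 1 := by
  have := x.2
  rwa [Matrix.det_fin_two] at this

/-- the only involution -/
theorem eq_of_sq (h2 : (2 : F) ≠ 0) {x : SL(2, F)} (hx : x * x = 1) : x = 1 ∨ x = -1 := by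
  have hd := det_eq x
  rw [entries, mul_00, mul_01, mul_10, mul_11] at hx
  obtain ⟨e1, e2, e3, e4⟩ := hx
  have o1 : (1 : SL(2, F)).1 0 0 = 1 := rfl
  have o2 : (1 : SL(2, F)).1 0 1 = 0 := rfl
  have o3 : (1 : SL(2, F)).1 1 0 = 0 := rfl
  have o4 : (1 : SL(2, F)).1 1 1 = 1 := rfl
  rw [o1] at e1; rw [o2] at e2; rw [o3] at e3; rw [o4] at e4
  set a := x.1 0 0 with ha
  set b := x.1 0 1 with hb
  set c := x.1 1 0 with hc
  set d := x.1 1 1 with hd'
  -- `x = x⁻¹`: `a = d`, `b = -b`
  have hb0 : b = 0 := by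
    have h3 : 2 * b = 0 := by linear_combination a * e2 - b * e1 - b * hd
    exact (mul_eq_zero.1 h3).resolve_left h2
  have hc0 : c = 0 := by
    have h3 : 2 * c = 0 := by linear_combination a * e3 - c * e1 - c * hd
    exact (mul_eq_zero.1 h3).resolve_left h2
  rw [hb0, hc0] at e1 e4 hd
  have had : a = d := by
    have h3 : a * a = 1 := by linear_combination e1
    have h4 : a * d = 1 := by linear_combination hd
    have h5 : a ≠ 0 := left_ne_zero_of_mul_eq_one h3
    exact mul_left_cancel₀ h5 (h3.trans h4.symm)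
  have h3 : (a - 1) * (a + 1) = 0 := by linear_combination e1
  rcases mul_eq_zero.1 h3 with h4 | h4
  · left
    rw [entries]
    refine ⟨?_, hb0, hc0, ?_⟩
    · rw [o1]; linear_combination h4
    · rw [o4]; linear_combination h4 - had
  · right
    rw [entries, neg_one_00, neg_one_01, neg_one_10, neg_one_11]
    refine ⟨?_, hb0, hc0, ?_⟩
    · linear_combination h4
    · linear_combination h4 - had

theorem neg_one_ne (h2 : (2 : F) ≠ 0) : (-1 : SL(2, F)) ≠ 1 := by
  intro h
  rw [entries, neg_one_00] at h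
  have o1 : (1 : SL(2, F)).1 0 0 = 1 := rfl
  rw [o1] at h
  apply h2
  linear_combination -h.1

/-- elements with square `-1` -/
theorem sq_neg_one_iff {x : SL(2, F)} : x * x = -1 ↔ x.1 1 1 = - x.1 0 0 := by
  have hd := det_eq x
  rw [entries, mul_00, mul_01, mul_10, mul_11, neg_one_00, neg_one_01, neg_one_10, neg_one_11]
  set a := x.1 0 0 with ha
  set b := x.1 0 1 with hb
  set c := x.1 1 0 with hc
  set d := x.1 1 1 with hd'
  constructor
  · rintro ⟨e1, e2, e3, e4⟩
    by_cases hb0 : b = 0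
    · rw [hb0] at e1 hd
      have h3 : a * (a + d) = 0 := by linear_combination e1 + hd
      rcases mul_eq_zero.1 h3 with h4 | h4
      · rw [h4] at hd; simp at hd
      · linear_combination h4
    · have h3 : b * (a + d) = 0 := by linear_combination e2
      rcases mul_eq_zero.1 h3 with h4 | h4
      · exact absurd h4 hb0
      · linear_combination h4
  · intro h
    rw [h] at hd ⊢
    refine ⟨?_, ?_, ?_, ?_⟩
    · linear_combination -hd
    · ring
    · ring
    · linear_combination -hd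

/-- the number of the square roots of `-1` -/
theorem card_sqrt [Finite F] (h2 : (2 : F) ≠ 0) : Nat.card {a : F // a * a = -1} = 2 ∧ Nat.card F % 4 = 1 ∨
    Nat.card {a : F // a * a = -1} = 0 ∧ Nat.card F % 4 = 3 := by
  classical
  have := Fintype.ofFinite F
  have hodd : Nat.card F % 2 = 1 := by
    rw [Nat.card_eq_fintype_card]
    exact FiniteField.odd_card_of_char_ne_two (fun hc => h2 (by
      have := CharP.cast_eq_zero F (ringChar F)
      rwa [hc, Nat.cast_ofNat] at this))
  by_cases hs : IsSquare (-1 : F)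
  · left
    obtain ⟨r, hr⟩ := hs
    have hq : Nat.card F % 4 ≠ 3 := by
      have h1 : IsSquare (-1 : F) := ⟨r, hr⟩
      rw [FiniteField.isSquare_neg_one_iff, ← Nat.card_eq_fintype_card] at h1
      exact h1
    refine ⟨?_, by omega⟩
    have hr0 : r ≠ -r := by
      intro h
      have h3 : 2 * r = 0 := by linear_combination h
      rcases mul_eq_zero.1 h3 with h4 | h4
      · exact h2 h4
      · rw [h4, mul_zero] at hr
        exact one_ne_zero (neg_eq_zero.1 hr)
    have e : {a : F // a * a = -1} ≃ ({r, -r} : Finset F) :=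
      { toFun := fun a => ⟨a.1, by
          have h3 : (a.1 - r) * (a.1 + r) = 0 := by linear_combination a.2 + hr
          rw [Finset.mem_insert, Finset.mem_singleton]
          rcases mul_eq_zero.1 h3 with h4 | h4
          · left; linear_combination h4
          · right; linear_combination h4⟩
        invFun := fun a => ⟨a.1, by
          have h3 := a.2
          rw [Finset.mem_insert, Finset.mem_singleton] at h3
          rcases h3 with h4 | h4
          · rw [h4]; exact hr.symm
          · rw [h4]; linear_combination -hr⟩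
        left_inv := fun a => rfl
        right_inv := fun a => rfl }
    rw [Nat.card_congr e, Nat.card_eq_fintype_card, Fintype.card_coe, Finset.card_pair hr0]
  · right
    have hq : Nat.card F % 4 = 3 := by
      by_contra hq
      apply hs
      rw [FiniteField.isSquare_neg_one_iff, ← Nat.card_eq_fintype_card]
      exact hq
    refine ⟨?_, hq⟩
    have : IsEmpty {a : F // a * a = -1} := ⟨fun a => hs ⟨a.1, a.2.symm⟩⟩
    exact Nat.card_of_isEmpty

/-- the set of the elements of square `-1` -/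
abbrev YY (F : Type*) [Field F] : Type _ := {x : SL(2, F) // x * x = -1}

theorem key_entry {x : SL(2, F)} (hx : x * x = -1) (h0 : x.1 0 1 = 0) : x.1 0 0 * x.1 0 0 = -1 := by
  have h1 := (sq_neg_one_iff).1 hx
  have h2 := det_eq x
  rw [h0, h1] at h2
  linear_combination -h2

/-- its parametrisation -/
noncomputable def equivYY (F : Type*) [Field F] : YY F ≃ (F × Fˣ) ⊕ ({a : F // a * a = -1} × F) := by
  classical
  exact
  { toFun := fun x => if h : x.1.1 0 1 = 0 then Sum.inr (⟨x.1.1 0 0, key_entry x.2 h⟩, x.1.1 1 0)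
      else Sum.inl (x.1.1 0 0, Units.mk0 (x.1.1 0 1) h)
    invFun := fun p => p.elim
      (fun p => ⟨⟨!![p.1, (p.2 : F); -(1 + p.1 * p.1) * (p.2 : F)⁻¹, -p.1], by
        rw [Matrix.det_fin_two_of]
        have h0 := mul_inv_cancel₀ p.2.ne_zero
        linear_combination (1 + p.1 * p.1) * h0⟩, sq_neg_one_iff.2 rfl⟩)
      (fun p => ⟨⟨!![p.1.1, 0; p.2, -p.1.1], by
        rw [Matrix.det_fin_two_of]
        linear_combination -p.1.2⟩, sq_neg_one_iff.2 rfl⟩)
    left_inv := by
      intro x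
      have h1 := (sq_neg_one_iff).1 x.2
      have h2 := det_eq x.1
      by_cases h : x.1.1 0 1 = 0
      · simp only [dif_pos h, Sum.elim_inr]
        apply Subtype.ext
        rw [entries]
        exact ⟨rfl, h.symm, rfl, h1.symm⟩
      · simp only [dif_neg h, Sum.elim_inl]
        apply Subtype.ext
        rw [entries]
        refine ⟨rfl, rfl, ?_, h1.symm⟩
        change -(1 + x.1.1 0 0 * x.1.1 0 0) * (x.1.1 0 1)⁻¹ = x.1.1 1 0
        rw [h1] at h2
        rw [mul_inv_eq_iff_eq_mul₀ h]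
        linear_combination h2
    right_inv := by
      rintro (p | p)
      · have h : ((p.2 : Fˣ) : F) ≠ 0 := p.2.ne_zero
        refine (dif_neg h).trans ?_
        congr 1
        apply Prod.ext
        · rfl
        · apply Units.ext; rfl
      · have h : (0 : F) = 0 := rfl
        exact dif_pos h }

theorem card_YY [Finite F] (h2 : (2 : F) ≠ 0) : Nat.card (YY F) % 4 = 2 := by
  rw [Nat.card_congr (equivYY F), Nat.card_sum, Nat.card_prod, Nat.card_prod, Nat.card_units]
  rcases card_sqrt h2 with ⟨h3, h4⟩ | ⟨h3, h4⟩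
  · rw [h3]
    obtain ⟨k, hk⟩ : ∃ k, Nat.card F = 4 * k + 1 := ⟨Nat.card F / 4, by omega⟩
    rw [hk]
    have : (4 * k + 1) * (4 * k + 1 - 1) + 2 * (4 * k + 1) = 4 * ((4 * k + 1) * k + 2 * k) + 2 := by
      have : 4 * k + 1 - 1 = 4 * k := by omega
      rw [this]; ring
    omega
  · rw [h3]
    obtain ⟨k, hk⟩ : ∃ k, Nat.card F = 4 * k + 3 := ⟨Nat.card F / 4, by omega⟩
    rw [hk]
    have : (4 * k + 3) * (4 * k + 3 - 1) + 0 * (4 * k + 3) = 4 * ((4 * k + 3) * k + 2 * k + 1) + 2 := by
      have : 4 * k + 3 - 1 = 4 * k + 2 := by omega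
      rw [this]; ring
    omega

/-- the cyclic subgroups of order 4 -/
def XX (F : Type*) [Field F] : Set (Subgroup SL(2, F)) := {C | ∃ x : SL(2, F), x * x = -1 ∧ C = zpowers x}

theorem orderOf_eq (h2 : (2 : F) ≠ 0) {x : SL(2, F)} (hx : x * x = -1) : orderOf x = 4 := by
  have e : x ^ (2 ^ 1) = -1 := by rw [pow_one, pow_two, hx]
  refine orderOf_eq_prime_pow (p := 2) (n := 1) ?_ ?_
  · rw [e]; exact neg_one_ne h2
  · rw [pow_succ, pow_mul, e, neg_one_sq]

theorem mem_zpowers_iff' (h2 : (2 : F) ≠ 0) {x y : SL(2, F)} (hx : x * x = -1) (hy : y * y = -1) :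
    zpowers x = zpowers y ↔ y = x ∨ y = -x := by
  classical
  constructor
  · intro h
    have h1 : y ∈ zpowers x := by rw [h]; exact mem_zpowers y
    have ho := orderOf_eq h2 hx
    have hfin : IsOfFinOrder x := orderOf_pos_iff.1 (by rw [ho]; norm_num)
    obtain ⟨n, hn, hny⟩ := (hfin.mem_zpowers_iff_mem_range_orderOf).1 h1 |> Finset.mem_image.1
    rw [Finset.mem_range, ho] at hn
    have hx2 : x ^ 2 = -1 := by rw [pow_two, hx]
    interval_cases n
    · rw [pow_zero] at hny
      rw [← hny, one_mul] at hy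
      exact absurd hy.symm (neg_one_ne h2)
    · left; rw [← hny, pow_one]
    · rw [hx2] at hny
      rw [← hny, neg_mul_neg, one_mul] at hy
      exact absurd hy.symm (neg_one_ne h2)
    · right
      rw [← hny, pow_succ, hx2, neg_one_mul]
  · rintro (rfl | rfl)
    · rfl
    · have : -x = x⁻¹ := by
        rw [eq_inv_iff_mul_eq_one, neg_mul, hx, neg_neg]
      rw [this, zpowers_inv]

/-- the number of the cyclic subgroups of order 4 is odd -/
theorem card_XX [Finite F] (h2 : (2 : F) ≠ 0) : Odd (Nat.card (XX F)) := by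
  classical
  have hfin : Finite (YY F) := inferInstance
  have hfy := Fintype.ofFinite (YY F)
  let f : YY F → XX F := fun x => ⟨zpowers x.1, x.1, x.2, rfl⟩
  have hsurj : Function.Surjective f := by
    rintro ⟨C, x, hx, rfl⟩
    exact ⟨⟨x, hx⟩, rfl⟩
  have hfx : Finite (XX F) := Finite.of_surjective f hsurj
  have hfxx := Fintype.ofFinite (XX F)
  have key : ∀ C : XX F, (Finset.univ.filter fun y : YY F => f y = C).card = 2 := by
    rintro ⟨C, x, hx, rfl⟩
    have hnx : -x * -x = -1 := by rw [neg_mul_neg, hx]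
    have hne : (⟨x, hx⟩ : YY F) ≠ ⟨-x, hnx⟩ := by
      intro h
      have h3 : x = -x := congrArg Subtype.val h
      have h4 : (1 : SL(2, F)) = -1 := by
        have h5 := congrArg (· * x⁻¹) h3
        simpa using h5
      exact neg_one_ne h2 h4.symm
    have : (Finset.univ.filter fun y : YY F => f y = ⟨zpowers x, x, hx, rfl⟩) = {⟨x, hx⟩, ⟨-x, hnx⟩} := by
      ext y
      simp only [Finset.mem_filter, Finset.mem_univ, true_and, Finset.mem_insert, Finset.mem_singleton]
      constructor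
      · intro h
        have h3 : zpowers y.1 = zpowers x := congrArg Subtype.val h
        rcases (mem_zpowers_iff' h2 hx y.2).1 h3.symm with h4 | h4
        · left; exact Subtype.ext h4
        · right; exact Subtype.ext h4
      · intro h
        apply Subtype.ext
        change zpowers y.1 = zpowers x
        refine ((mem_zpowers_iff' h2 hx y.2).2 ?_).symm
        rcases h with h | h
        · left; rw [h]
        · right; rw [h]
    rw [this, Finset.card_pair hne]
  have h3 : Fintype.card (YY F) = Fintype.card (XX F) * 2 := by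
    rw [← Finset.card_univ, Finset.card_eq_sum_card_fiberwise (f := f) (t := Finset.univ) (fun _ _ => Finset.mem_univ _),
      Finset.sum_congr rfl (fun C _ => key C), Finset.sum_const, Finset.card_univ, smul_eq_mul]
  have h4 := card_YY h2
  rw [Nat.card_eq_fintype_card, h3] at h4
  rw [Nat.card_eq_fintype_card, Nat.odd_iff]
  omega

end Cfsg.Agent.H512.LinFour.FrameA
end

-- part: H318/Four/Homo
section
/-!
# Abelian 2-subgroups of exponent four normalised by `A` have order at most `2 ^ 8` (helper318)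
-/

set_option autoImplicit false

namespace Cfsg.Agent.H318.Four.Homo

open Subgroup Cfsg.Agent.H336.LinFour

theorem card_ker_range {R S : Type*} [Group R] [Group S] (f : R →* S) :
    Nat.card R = Nat.card f.ker * Nat.card f.range := by
  rw [Subgroup.card_eq_card_quotient_mul_card_subgroup f.ker, mul_comm,
    Nat.card_congr (QuotientGroup.quotientKerEquivRange f).toEquiv]

theorem card_ker_map {R S : Type*} [Group R] [Group S] (f : R →* S) (H : Subgroup R) :
    Nat.card H = Nat.card (H ⊓ f.ker : Subgroup R) * Nat.card (H.map f) := by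
  have h1 := card_ker_range (f.comp H.subtype)
  have h2 : (f.comp H.subtype).range = H.map f := by
    rw [MonoidHom.range_comp, Subgroup.range_subtype]
  have h3 : (f.comp H.subtype).ker.map H.subtype = H ⊓ f.ker := by
    ext x
    constructor
    · rintro ⟨y, hy, rfl⟩
      exact ⟨y.2, hy⟩
    · rintro ⟨hx, hx'⟩
      exact ⟨⟨x, hx⟩, hx', rfl⟩
  rw [h2] at h1
  rw [h1, ← h3, ← Nat.card_congr ((f.comp H.subtype).ker.equivMapOfInjective _ H.subtype_injective).toEquiv]

theorem card_sup_mul_inf {R : Type*} [CommGroup R] (H N : Subgroup R) :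
    Nat.card (H ⊔ N : Subgroup R) * Nat.card (H ⊓ N : Subgroup R) = Nat.card H * Nat.card N := by
  have h1 := Subgroup.relIndex_mul_relIndex ⊥ N (H ⊔ N) bot_le le_sup_right
  have h2 := Subgroup.relIndex_mul_relIndex ⊥ (H ⊓ N) H bot_le inf_le_left
  rw [Subgroup.relIndex_sup_right, Subgroup.relIndex_bot_left, Subgroup.relIndex_bot_left] at h1
  rw [Subgroup.inf_relIndex_left, Subgroup.relIndex_bot_left, Subgroup.relIndex_bot_left] at h2
  rw [← h1, ← h2]; ring

/-- an involutory automorphism of an abelian group of exponent four -/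
theorem card_le_sq {R : Type*} [CommGroup R] [Finite R] (h4 : ∀ r : R, r ^ 4 = 1) (θ : R →* R)
    (hθ : ∀ r, θ (θ r) = r) : Nat.card R ≤ Nat.card (θ / MonoidHom.id R).ker ^ 2 := by
  set f : R →* R := θ / MonoidHom.id R with hf
  set g : R →* R := θ * MonoidHom.id R with hg
  have hfa : ∀ r, f r = θ r / r := fun r => rfl
  have hga : ∀ r, g r = θ r * r := fun r => rfl
  let s : R →* R := powMonoidHom 2
  have hs : ∀ r, s r = r ^ 2 := fun r => rfl
  have hker : ∀ r, r ∈ f.ker ↔ θ r = r := fun r => by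
    rw [MonoidHom.mem_ker, hfa, div_eq_one]
  -- the squares
  have h1 : f.range.map s = g.range.map s := by
    rw [← MonoidHom.range_comp, ← MonoidHom.range_comp]
    congr 1
    ext r
    change (θ r / r) ^ 2 = (θ r * r) ^ 2
    rw [div_pow, mul_pow, div_eq_iff_eq_mul, mul_assoc, ← pow_add, h4, mul_one]
  have hN : g.range ≤ f.ker := by
    rintro _ ⟨r, rfl⟩
    rw [hker, hga, map_mul, hθ, mul_comm]
  have hI : f.range ⊓ s.ker ≤ f.ker := by
    rintro _ ⟨⟨r, rfl⟩, h2⟩
    replace h2 : f r ∈ s.ker := h2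
    rw [MonoidHom.mem_ker, hs] at h2
    rw [hker, hfa, map_div, hθ, ← inv_div]
    rw [inv_eq_iff_mul_eq_one, ← pow_two]
    exact h2
  have e1 := card_ker_map s f.range
  have e2 := card_ker_map s g.range
  have e3 := card_sup_mul_inf g.range (f.range ⊓ s.ker)
  have e4 : Nat.card (g.range ⊔ f.range ⊓ s.ker : Subgroup R) ≤ Nat.card f.ker :=
    Subgroup.card_le_of_le (sup_le hN hI)
  have e5 : Nat.card (g.range ⊓ (f.range ⊓ s.ker) : Subgroup R) ≤ Nat.card (g.range ⊓ s.ker : Subgroup R) :=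
    Subgroup.card_le_of_le (inf_le_inf le_rfl inf_le_right)
  have e6 : 0 < Nat.card (g.range ⊓ (f.range ⊓ s.ker) : Subgroup R) := Nat.card_pos
  have e7 : Nat.card f.range ≤ Nat.card f.ker := by
    refine le_trans ?_ e4
    rw [e1, h1]
    refine Nat.le_of_mul_le_mul_right ?_ e6
    rw [e3, e2]
    calc Nat.card ↥(f.range ⊓ s.ker) * Nat.card ↥(Subgroup.map s g.range) * Nat.card ↥(g.range ⊓ (f.range ⊓ s.ker))
        ≤ Nat.card ↥(f.range ⊓ s.ker) * Nat.card ↥(Subgroup.map s g.range) * Nat.card (g.range ⊓ s.ker : Subgroup R) :=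
          Nat.mul_le_mul_left _ e5
      _ = _ := by ring
  rw [card_ker_range f, pow_two]
  exact Nat.mul_le_mul_left _ e7

/-- an involution normalising an abelian subgroup of exponent four -/
theorem card_le_centralizer_sq {K : Type*} [Group K] (R : Subgroup K) [Finite R]
    (hc : ∀ a ∈ R, ∀ b ∈ R, a * b = b * a) (h4 : ∀ a ∈ R, a ^ 4 = 1) {x : K} (hx : x * x = 1)
    (hn : ∀ a ∈ R, x * a * x⁻¹ ∈ R) : Nat.card R ≤ Nat.card (R ⊓ centralizer {x} : Subgroup K) ^ 2 := by
  let _ : CommGroup R := { (inferInstance : Group R) with mul_comm := fun a b => Subtype.ext (hc a a.2 b b.2) }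
  let θ : R →* R :=
    { toFun := fun a => ⟨x * a * x⁻¹, hn a a.2⟩
      map_one' := Subtype.ext (by simp)
      map_mul' := fun a b => Subtype.ext (by simp only [mul_assoc, _root_.Subgroup.coe_mul, _root_.MulMemClass.mk_mul_mk, _root_.inv_mul_cancel_left]) }
  have hθ : ∀ r, θ (θ r) = r := fun r => Subtype.ext (by
    change x * (x * r * x⁻¹) * x⁻¹ = r
    calc x * (x * (r : K) * x⁻¹) * x⁻¹ = (x * x) * r * (x * x)⁻¹ := by group
      _ = r := by rw [hx]; simp)
  have h1 := card_le_sq (R := R) (fun r => Subtype.ext (h4 r r.2)) θ hθ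
  refine h1.trans (Nat.pow_le_pow_left ?_ 2)
  rw [Nat.card_congr ((θ / MonoidHom.id R).ker.equivMapOfInjective R.subtype R.subtype_injective).toEquiv]
  have : Finite ↥(R ⊓ centralizer {x} : Subgroup K) :=
    Finite.of_injective (inclusion (inf_le_left : R ⊓ centralizer {x} ≤ R)) (inclusion_injective _)
  refine Subgroup.card_le_of_le ?_
  rintro _ ⟨a, ha, rfl⟩
  refine ⟨a.2, ?_⟩
  rw [SetLike.mem_coe, MonoidHom.mem_ker, MonoidHom.div_apply, div_eq_one] at ha
  have h2 : x * a * x⁻¹ = a := congrArg Subtype.val ha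
  change (a : K) ∈ centralizer {x}
  rw [mem_centralizer_singleton_iff]
  exact (mul_inv_eq_iff_eq_mul.1 h2).symm

section

variable {K : Type*} [Group K] {th : V → K} {O K0 : Subgroup K}

/-- the centraliser in `R` of a subgroup of `A` -/
def RC (th : V → K) (R : Subgroup K) (U : AddSubgroup V) : Subgroup K where
  carrier := {r | r ∈ R ∧ ∀ u ∈ U, r * th u = th u * r}
  one_mem' := ⟨R.one_mem, fun u _ => by rw [one_mul, mul_one]⟩
  mul_mem' := by
    rintro a b ⟨ha, ha'⟩ ⟨hb, hb'⟩
    exact ⟨R.mul_mem ha hb, fun u hu => by rw [mul_assoc, hb' u hu, ← mul_assoc, ha' u hu, mul_assoc]⟩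
  inv_mem' := by
    rintro a ⟨ha, ha'⟩
    exact ⟨R.inv_mem ha, fun u hu => by
      rw [inv_mul_eq_iff_eq_mul, ← mul_assoc, ha' u hu, mul_inv_cancel_right]⟩

theorem mem_RC {R : Subgroup K} {U : AddSubgroup V} {r : K} :
    r ∈ RC th R U ↔ r ∈ R ∧ ∀ u ∈ U, r * th u = th u * r := Iff.rfl

theorem index_bound (h : Sit th O K0) (R : Subgroup K) [Finite R]
    (hc : ∀ a ∈ R, ∀ b ∈ R, a * b = b * a) (h4 : ∀ a ∈ R, a ^ 4 = 1)
    (hn : ∀ v, ∀ a ∈ R, th v * a * (th v)⁻¹ ∈ R) :
    ∀ (n : ℕ) (U : AddSubgroup V), U.index = n → Nat.card (RC th R U) ≤ Nat.card (RC th R ⊤) ^ n := by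
  intro n
  induction n using Nat.strong_induction_on with
  | _ n ih =>
    intro U hU
    by_cases hT : U = ⊤
    · subst hT
      rw [AddSubgroup.index_top] at hU
      rw [← hU, pow_one]
    obtain ⟨x, -, hx⟩ := SetLike.exists_of_lt (lt_top_iff_ne_top.2 hT)
    let U' : AddSubgroup V :=
      { carrier := {v | v ∈ U ∨ v + x ∈ U}
        zero_mem' := Or.inl U.zero_mem
        add_mem' := by
          rintro a b (ha | ha) (hb | hb)
          · exact Or.inl (U.add_mem ha hb)
          · right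
            rw [add_assoc]; exact U.add_mem ha hb
          · right
            have := U.add_mem ha hb
            rwa [add_right_comm] at this
          · left
            have := U.add_mem ha hb
            have e : a + x + (b + x) = a + b + x + x := by abel
            rwa [e, add_add_self] at this
        neg_mem' := by
          intro a ha
          rw [v_neg]; exact ha }
    have hUU' : U ≤ U' := fun u hu => Or.inl hu
    have hxU' : x ∈ U' := Or.inr (by rw [v_add_self]; exact U.zero_mem)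
    have hrel : U.relIndex U' = 2 := by
      rw [AddSubgroup.relIndex_eq_two_iff]
      refine ⟨x, hxU', ?_⟩
      intro b hb
      rcases hb with hb | hb
      · right
        refine ⟨hb, fun h1 => hx ?_⟩
        have := U.add_mem hb h1
        rwa [self_add_add] at this
      · left
        refine ⟨hb, fun h1 => hx ?_⟩
        have := U.add_mem h1 hb
        rwa [self_add_add] at this
    have hidx : U.index = 2 * U'.index := by
      rw [← AddSubgroup.relIndex_mul_index hUU', hrel]
    have hpos : 0 < U'.index := Nat.pos_of_ne_zero AddSubgroup.index_ne_zero_of_finite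
    have h1 := ih U'.index (by omega) U' rfl
    have hle : RC th R U ≤ R := fun r hr => hr.1
    have : Finite (RC th R U) := Finite.of_injective (inclusion hle) (inclusion_injective _)
    have h2 := card_le_centralizer_sq (RC th R U) (fun a ha b hb => hc a ha.1 b hb.1) (fun a ha => h4 a ha.1)
      (h.sq x) (by
        intro a ha
        refine ⟨hn x a ha.1, fun u hu => ?_⟩
        have e1 := ha.2 u hu
        have e2 := h.comm x u
        calc th x * a * (th x)⁻¹ * th u = th x * a * ((th x)⁻¹ * th u) := by group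
          _ = th x * a * (th u * (th x)⁻¹) := by rw [h.inv, e2]
          _ = th x * (a * th u) * (th x)⁻¹ := by group
          _ = th x * (th u * a) * (th x)⁻¹ := by rw [e1]
          _ = (th x * th u) * a * (th x)⁻¹ := by group
          _ = _ := by rw [e2]; group)
    have h3 : (RC th R U ⊓ centralizer {th x} : Subgroup K) = RC th R U' := by
      ext r
      rw [mem_inf, mem_centralizer_singleton_iff, mem_RC, mem_RC]
      constructor
      · rintro ⟨⟨hr, hr'⟩, hrx⟩
        refine ⟨hr, ?_⟩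
        rintro u (hu | hu)
        · exact hr' u hu
        · have e : u = (u + x) + x := (add_add_self _ _).symm
          rw [e, h.add, ← mul_assoc, hr' _ hu, mul_assoc, hrx, mul_assoc]
      · rintro ⟨hr, hr'⟩
        exact ⟨⟨hr, fun u hu => hr' u (hUU' hu)⟩, hr' x hxU'⟩
    rw [h3] at h2
    calc Nat.card (RC th R U) ≤ Nat.card (RC th R U') ^ 2 := h2
      _ ≤ (Nat.card (RC th R ⊤) ^ U'.index) ^ 2 := Nat.pow_le_pow_left h1 2
      _ = Nat.card (RC th R ⊤) ^ n := by rw [← pow_mul, ← hU, hidx, mul_comm]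

/-- **Abelian subgroups of exponent dividing four normalised by `A` have order at most `2 ^ 8`.** -/
theorem card_le (h : Sit th O K0) (R : Subgroup K) [Finite R]
    (hc : ∀ a ∈ R, ∀ b ∈ R, a * b = b * a) (h4 : ∀ a ∈ R, a ^ 4 = 1)
    (hn : ∀ v, ∀ a ∈ R, th v * a * (th v)⁻¹ ∈ R) : Nat.card R ≤ 2 ^ 8 := by
  classical
  let U : AddSubgroup V :=
    { carrier := {v | th v ∈ R}
      zero_mem' := by change th 0 ∈ R; rw [h.zero]; exact R.one_mem
      add_mem' := fun {u v} hu hv => by change th (u + v) ∈ R; rw [h.add]; exact R.mul_mem hu hv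
      neg_mem' := fun {u} hu => by change th (-u) ∈ R; rw [v_neg]; exact hu }
  have h1 : RC th R U = R := by
    ext r
    rw [mem_RC]
    exact ⟨fun hr => hr.1, fun hr => ⟨hr, fun u hu => hc r hr _ hu⟩⟩
  have h2 : Nat.card (RC th R ⊤) ≤ Nat.card U := by
    have h3 : ∀ r ∈ RC th R ⊤, ∃ u ∈ U, th u = r := by
      intro r hr
      obtain ⟨u, hu⟩ := h.mem_of_sq (x := r) (fun v => hr.2 v trivial) (n := 2) (h4 r hr.1)
      exact ⟨u, by change th u ∈ R; rw [hu]; exact hr.1, hu⟩
    choose f hf hf' using h3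
    refine Nat.card_le_card_of_injective (fun r : RC th R ⊤ => (⟨f r r.2, hf r r.2⟩ : U)) ?_
    intro r s hrs
    have h4 : f r r.2 = f s s.2 := congrArg Subtype.val hrs
    apply Subtype.ext
    rw [← hf' r r.2, h4, hf' s s.2]
  have h3 := index_bound h R hc h4 hn U.index U rfl
  rw [h1] at h3
  have h5 := U.card_mul_index
  have h6 : Nat.card V = 16 := by simp [V]
  rw [h6] at h5
  have h7 : Nat.card R ≤ Nat.card U ^ U.index := h3.trans (Nat.pow_le_pow_left h2 _)
  refine h7.trans ?_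
  have h8 : Nat.card U ∣ 16 := ⟨_, h5.symm⟩
  have h9 : Nat.card U ∈ Nat.divisors 16 := Nat.mem_divisors.2 ⟨h8, by norm_num⟩
  have h10 : Nat.divisors 16 = {1, 2, 4, 8, 16} := by decide
  rw [h10] at h9
  simp only [Finset.mem_insert, Finset.mem_singleton] at h9
  rcases h9 with e | e | e | e | e
  · rw [e, one_pow]; norm_num
  · rw [e] at h5 ⊢
    have : U.index = 8 := by omega
    rw [this]
  · rw [e] at h5 ⊢
    have : U.index = 4 := by omega
    rw [this]; norm_num
  · rw [e] at h5 ⊢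
    have : U.index = 2 := by omega
    rw [this]; norm_num
  · rw [e] at h5 ⊢
    have : U.index = 1 := by omega
    rw [this]; norm_num

end

end Cfsg.Agent.H318.Four.Homo
end

-- part: H512/LinFour/FrameD
section
/-!
# Frames of commuting `SL(2, q)`, `q ≡ 3 mod 4`: a large abelian subgroup of exponent four
-/

set_option autoImplicit false

namespace Cfsg.Agent.H512.LinFour.FrameA

open Subgroup
open Cfsg.Agent.FixBN.FieldRGD (uu vv dd ww)
open scoped MatrixGroups

variable {G : Type*} [Group G] {F : Type*} [Field F] {n d : ℕ} {T : Subgroup G} {φ : Fin n → (SL(2, F) →* G)}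

/-- tuples of cyclic subgroups of order four -/
abbrev Om (φ : Fin n → (SL(2, F) →* G)) : Type _ :=
  {c : Fin n → Subgroup G // ∀ i, ∃ C ∈ XX F, c i = C.map (φ i)}

theorem Fr.card_Om (h : Fr d T φ) : Nat.card (Om φ) = Nat.card (XX F) ^ n := by
  have e : (Fin n → XX F) ≃ Om φ := Equiv.ofBijective
    (fun c => (⟨fun i => (c i).1.map (φ i), fun i => ⟨(c i).1, (c i).2, rfl⟩⟩ : Om φ)) (by
      constructor
      · intro a b hab
        funext i
        apply Subtype.ext
        have h1 : (fun i => (a i).1.map (φ i)) = fun i => (b i).1.map (φ i) := congrArg Subtype.val hab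
        exact Subgroup.map_injective (h.inj i) (congrFun h1 i)
      · rintro ⟨c, hc⟩
        have hc' := hc
        choose C hC hC' using hc'
        exact ⟨fun i => ⟨C i, hC i⟩, Subtype.ext (funext fun i => (hC' i).symm)⟩)
  rw [← Nat.card_congr e, Nat.card_fun, Nat.card_fin]

/-- transport of a cyclic subgroup of order four -/
theorem Fr.transport (h : Fr d T φ) (h2 : (2 : F) ≠ 0) {g : G} {σ : Equiv.Perm (Fin n)} (hg : IsPerm φ g σ) (i : Fin n)
    {C : Subgroup SL(2, F)} (hC : C ∈ XX F) :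
    ∃ C' ∈ XX F, (C.map (φ i)).map (MulAut.conj g).toMonoidHom = C'.map (φ (σ i)) := by
  obtain ⟨x, hx, rfl⟩ := hC
  have h1 : MulAut.conj g (φ i x) ∈ (φ (σ i)).range := by
    rw [← hg i]
    exact ⟨φ i x, ⟨x, rfl⟩, rfl⟩
  obtain ⟨y, hy⟩ := h1
  have hyy : y * y = -1 := by
    have h3 : (y * y) * (y * y) = 1 := by
      apply h.inj (σ i)
      rw [map_mul, map_mul, hy, map_one, ← map_mul, ← map_mul, ← map_mul, ← map_mul, hx, neg_mul_neg, one_mul,
        map_one, map_one]
    rcases eq_of_sq h2 h3 with h4 | h4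
    · exfalso
      have h5 : φ (σ i) (y * y) = 1 := by rw [h4, map_one]
      rw [map_mul, hy, ← map_mul, ← map_mul, hx] at h5
      have h6 : φ i (-1) = 1 := (MulAut.conj g).injective (by rw [h5, map_one])
      exact neg_one_ne h2 (h.inj i (by rw [h6, map_one]))
    · exact h4
  refine ⟨zpowers y, ⟨y, hyy, rfl⟩, ?_⟩
  rw [MonoidHom.map_zpowers, MonoidHom.map_zpowers, MonoidHom.map_zpowers, hy]
  rfl

/-- the action -/
@[reducible] noncomputable def Fr.act (h : Fr d T φ) (h2 : (2 : F) ≠ 0) : MulAction (NN φ) (Om φ) where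
  smul g c := ⟨fun i => (c.1 ((h.pi g)⁻¹ i)).map (MulAut.conj (g : G)).toMonoidHom, fun i => by
    obtain ⟨C, hC, hC'⟩ := c.2 ((h.pi g)⁻¹ i)
    obtain ⟨D, hD, hD'⟩ := h.transport h2 (h.pi_spec g) ((h.pi g)⁻¹ i) hC
    have e : h.pi g ((h.pi g)⁻¹ i) = i := Equiv.apply_symm_apply _ i
    rw [e] at hD'
    refine ⟨D, hD, ?_⟩
    change (c.1 ((h.pi g)⁻¹ i)).map (MulAut.conj (g : G)).toMonoidHom = _
    rw [hC', hD']⟩
  one_smul c := by
    apply Subtype.ext
    funext i
    change (c.1 ((h.pi 1)⁻¹ i)).map (MulAut.conj ((1 : NN φ) : G)).toMonoidHom = c.1 i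
    rw [map_one, inv_one, OneMemClass.coe_one, map_one]
    exact Subgroup.map_id _
  mul_smul a b c := by
    apply Subtype.ext
    funext i
    change (c.1 ((h.pi (a * b))⁻¹ i)).map (MulAut.conj ((a * b : NN φ) : G)).toMonoidHom =
      ((c.1 ((h.pi b)⁻¹ ((h.pi a)⁻¹ i))).map (MulAut.conj (b : G)).toMonoidHom).map (MulAut.conj (a : G)).toMonoidHom
    rw [Subgroup.coe_mul, map_conj_mul, map_mul, mul_inv_rev]
    rfl

/-- the kernel of the product map is small -/
theorem Fr.ker_le (h : Fr d T φ) {x : Fin n → SL(2, F)} (hx : h.M x = 1) (i : Fin n) : x i = 1 ∨ x i = -1 := by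
  have h1 : ∀ y, x i * y = y * x i := by
    intro y
    have h2 := h.M_conj x i y
    rw [hx, one_mul, inv_one, mul_one] at h2
    have h3 := h.inj i h2
    exact (eq_mul_inv_iff_mul_eq.1 h3).symm
  have e1 := h1 (uu 1)
  have e2 := h1 (vv 1)
  have d := det_eq (x i)
  have u00 : (uu 1 : SL(2, F)).1 0 0 = 1 := rfl
  have u01 : (uu 1 : SL(2, F)).1 0 1 = 1 := rfl
  have u10 : (uu 1 : SL(2, F)).1 1 0 = 0 := rfl
  have u11 : (uu 1 : SL(2, F)).1 1 1 = 1 := rfl
  have v00 : (vv 1 : SL(2, F)).1 0 0 = 1 := rfl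
  have v01 : (vv 1 : SL(2, F)).1 0 1 = 0 := rfl
  have v10 : (vv 1 : SL(2, F)).1 1 0 = 1 := rfl
  have v11 : (vv 1 : SL(2, F)).1 1 1 = 1 := rfl
  rw [entries, mul_00, mul_01, mul_10, mul_11, mul_00, mul_01, mul_10, mul_11, u00, u01, u10, u11] at e1
  rw [entries, mul_00, mul_01, mul_10, mul_11, mul_00, mul_01, mul_10, mul_11, v00, v01, v10, v11] at e2
  set a := (x i).1 0 0 with ha
  set b := (x i).1 0 1 with hb
  set c := (x i).1 1 0 with hc
  set d' := (x i).1 1 1 with hd'
  have c0 : c = 0 := by linear_combination -e1.1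
  have b0 : b = 0 := by linear_combination e2.1
  have ad : a = d' := by linear_combination e1.2.1
  rw [b0, c0, ← ad] at d
  have h3 : (a - 1) * (a + 1) = 0 := by linear_combination d
  rcases mul_eq_zero.1 h3 with h4 | h4
  · left
    rw [entries]
    refine ⟨?_, b0, c0, ?_⟩
    · change a = 1; linear_combination h4
    · change d' = 1; linear_combination h4 - ad
  · right
    rw [entries, neg_one_00, neg_one_01, neg_one_10, neg_one_11]
    refine ⟨?_, b0, c0, ?_⟩
    · change a = -1; linear_combination h4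
    · change d' = -1; linear_combination h4 - ad

/-- the kernel of the product map, given a set of coordinates on which it is trivial -/
theorem Fr.card_ker_le (h : Fr d T φ) (J : Finset (Fin n))
    (hJ : ∀ x : Fin n → SL(2, F), h.M x = 1 → (∀ j, j ∉ J → x j = 1) → ∀ j ∈ J, x j = 1) :
    Nat.card h.M.ker ≤ 2 ^ (n - J.card) := by
  classical
  let f : h.M.ker → ((Jᶜ : Finset (Fin n)) → Bool) := fun x j => decide (x.1 j.1 = 1)
  have hf : Function.Injective f := by
    intro x y hxy
    have h3 : ∀ j : Fin n, j ∉ J → x.1 j = y.1 j := by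
      intro j hj
      have h4 : decide (x.1 j = 1) = decide (y.1 j = 1) := congrFun hxy ⟨j, Finset.mem_compl.2 hj⟩
      rw [decide_eq_decide] at h4
      rcases h.ker_le x.2 j with h5 | h5
      · rw [h5, h4.1 h5]
      · rcases h.ker_le y.2 j with h6 | h6
        · rw [h6, h4.2 h6]
        · rw [h5, h6]
    have h6 : h.M (x.1 * (y.1)⁻¹) = 1 := by
      rw [map_mul, map_inv, (MonoidHom.mem_ker.1 x.2), (MonoidHom.mem_ker.1 y.2), inv_one, one_mul]
    have h7 := hJ _ h6 (fun j hj => by rw [Pi.mul_apply, Pi.inv_apply, h3 j hj, mul_inv_cancel])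
    apply Subtype.ext
    funext j
    by_cases hj : j ∈ J
    · have h8 := h7 j hj
      rw [Pi.mul_apply, Pi.inv_apply, mul_inv_eq_one] at h8
      exact h8
    · exact h3 j hj
  have h3 := Nat.card_le_card_of_injective f hf
  refine h3.trans ?_
  rw [Nat.card_fun, Nat.card_eq_fintype_card (α := (Jᶜ : Finset (Fin n))), Fintype.card_coe, Finset.card_compl,
    Fintype.card_fin]
  simp

/-- the kernel of the product map is proper -/
theorem Fr.card_ker_le_one (h : Fr d T φ) (i : Fin n) : Nat.card h.M.ker ≤ 2 ^ (n - 1) := by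
  have h1 := h.card_ker_le {i} (by
    intro x hx hj j hj'
    rw [Finset.mem_singleton] at hj'
    subst hj'
    have h2 : x = Pi.mulSingle j (x j) := by
      funext k
      by_cases hk : k = j
      · subst hk; rw [Pi.mulSingle_eq_same]
      · rw [Pi.mulSingle_eq_of_ne hk, hj k (by rwa [Finset.mem_singleton])]
    rw [h2, h.M_single] at hx
    exact h.inj j (by rw [hx, map_one]))
  rwa [Finset.card_singleton] at h1

/-- **A 2-subgroup of the stabiliser of the frame normalises a large abelian subgroup of exponent four.** -/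
theorem Fr.exists_R (h : Fr d T φ) [Finite F] [Finite G] (h2 : (2 : F) ≠ 0) (A : Subgroup G) (hA : IsPGroup 2 A)
    (hle : A ≤ NN φ) : ∃ R : Subgroup G, (∀ a ∈ R, ∀ b ∈ R, a * b = b * a) ∧ (∀ a ∈ R, a ^ 4 = 1) ∧
      (∀ v ∈ A, ∀ a ∈ R, v * a * v⁻¹ ∈ R) ∧ 4 ^ n ≤ Nat.card h.M.ker * Nat.card R := by
  classical
  have hfS : Finite SL(2, F) := inferInstance
  let _ := h.act h2
  have hfin : Finite (Om φ) := Nat.finite_of_card_ne_zero (by
    rw [h.card_Om]
    exact pow_ne_zero _ (card_XX h2).pos.ne')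
  have hodd : ¬ 2 ∣ Nat.card (Om φ) := by
    rw [h.card_Om, ← even_iff_two_dvd, Nat.not_even_iff_odd]
    exact (card_XX h2).pow
  let A' : Subgroup (NN φ) := A.subgroupOf (NN φ)
  have hA' : IsPGroup 2 A' := hA.of_equiv (subgroupOfEquivOfLe hle).symm
  obtain ⟨c, hc⟩ := hA'.nonempty_fixed_point_of_prime_not_dvd_card (Om φ) hodd
  have hfix : ∀ v ∈ A, ∀ (hv : v ∈ NN φ) (i : Fin n),
      (c.1 ((h.pi ⟨v, hv⟩)⁻¹ i)).map (MulAut.conj v).toMonoidHom = c.1 i := by
    intro v hvA hv i
    have h3 := hc ⟨⟨v, hv⟩, hvA⟩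
    exact congrFun (congrArg Subtype.val h3) i
  choose C hC hC' using c.2
  choose x hx hxC using hC
  -- the subgroup
  let P : Subgroup (Fin n → SL(2, F)) := Subgroup.pi Set.univ C
  have hcomm : ∀ p ∈ P, ∀ q ∈ P, p * q = q * p := by
    intro p hp q hq
    funext i
    have h3 : p i ∈ C i := hp i trivial
    have h4 : q i ∈ C i := hq i trivial
    rw [hxC i] at h3 h4
    obtain ⟨m, hm⟩ := h3
    obtain ⟨n, hn⟩ := h4
    rw [Pi.mul_apply, Pi.mul_apply, ← hm, ← hn]
    exact (Commute.refl (x i)).zpow_zpow m n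
  have hexp : ∀ p ∈ P, p ^ 4 = 1 := by
    intro p hp
    funext i
    have h3 : p i ∈ C i := hp i trivial
    rw [hxC i] at h3
    obtain ⟨m, hm⟩ := h3
    have h4 : x i ^ 4 = 1 := by rw [← orderOf_eq h2 (hx i)]; exact pow_orderOf_eq_one _
    rw [Pi.pow_apply, ← hm]
    change (x i ^ m) ^ 4 = 1
    rw [← zpow_natCast, ← zpow_mul, mul_comm, zpow_mul, zpow_natCast, h4, one_zpow]
  have hcard : Nat.card P = 4 ^ n := by
    let e : P ≃ (∀ i : Fin n, C i) :=
      { toFun := fun x i => ⟨x.1 i, x.2 i trivial⟩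
        invFun := fun x => ⟨fun i => (x i).1, fun i _ => (x i).2⟩
        left_inv := fun x => rfl
        right_inv := fun x => rfl }
    rw [Nat.card_congr e, Nat.card_pi]
    have : ∀ i, Nat.card (C i) = 4 := fun i => by
      rw [hxC i, Nat.card_zpowers, orderOf_eq h2 (hx i)]
    simp only [this, _root_.Finset.prod_const, _root_.Finset.card_univ, _root_.Fintype.card_fin]
  have hPM : P.map h.M = ⨆ i, c.1 i := by
    have h3 : ∀ i, c.1 i = (C i).map (φ i) := hC'
    apply le_antisymm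
    · rintro _ ⟨p, hp, rfl⟩
      change MonoidHom.noncommPiCoprod φ h.pw p ∈ _
      rw [MonoidHom.noncommPiCoprod_apply]
      refine Subgroup.noncommProd_mem _ _ fun i _ => ?_
      have h4 : φ i (p i) ∈ c.1 i := by
        rw [h3 i]
        exact ⟨p i, hp i trivial, rfl⟩
      exact le_iSup c.1 i h4
    · refine iSup_le fun i => ?_
      rw [h3 i]
      rintro _ ⟨y, hy, rfl⟩
      refine ⟨Pi.mulSingle i y, ?_, h.M_single i y⟩
      intro j _
      by_cases hj : j = i
      · subst hj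
        rw [Pi.mulSingle_eq_same]; exact hy
      · rw [Pi.mulSingle_eq_of_ne hj]
        exact (C j).one_mem
  refine ⟨P.map h.M, ?_, ?_, ?_, ?_⟩
  · rintro _ ⟨p, hp, rfl⟩ _ ⟨q, hq, rfl⟩
    rw [← map_mul, hcomm p hp q hq, map_mul]
  · rintro _ ⟨p, hp, rfl⟩
    rw [← map_pow, hexp p hp, map_one]
  · intro v hv a ha
    have hvN := hle hv
    rw [hPM] at ha ⊢
    have h3 : (⨆ i, c.1 i).map (MulAut.conj v).toMonoidHom ≤ ⨆ i, c.1 i := by
      rw [Subgroup.map_iSup]
      refine iSup_le fun i => ?_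
      have h4 := hfix v hv hvN (h.pi ⟨v, hvN⟩ i)
      have e : (h.pi ⟨v, hvN⟩)⁻¹ (h.pi ⟨v, hvN⟩ i) = i := Equiv.symm_apply_apply _ i
      rw [e] at h4
      rw [h4]
      exact le_iSup c.1 _
    exact h3 ⟨a, ha, rfl⟩
  · have h3 := Cfsg.Agent.H318.Four.Homo.card_ker_map h.M P
    rw [hcard] at h3
    have hfs : Finite (Fin n → SL(2, F)) := inferInstance
    rw [h3]
    exact Nat.mul_le_mul_right _ (Subgroup.card_le_of_le inf_le_right)

end Cfsg.Agent.H512.LinFour.FrameA
end

-- part: H512/LinFour/FrameE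
section
/-!
# Frames of commuting `SL(2, q)`, `q` odd: the contradiction
-/

set_option autoImplicit false

namespace Cfsg.Agent.H512.LinFour.FrameA

open Subgroup Cfsg.Agent.H336.LinFour
open scoped MatrixGroups

variable {G : Type*} [Group G] {F : Type*} [Field F] {n d : ℕ} {T : Subgroup G} {φ : Fin n → (SL(2, F) →* G)}

/-- the stabiliser of the frame has odd index -/
theorem Fr.odd_index (hf : Fr d T φ) [Finite G] [Finite F] {c o : ℕ} (ho : Odd o) (hc0 : 0 < c)
    (hcard : Nat.card G * d = c * (Nat.card F ^ 2 - 1) ^ n * o) (hc : c ∣ Nat.card hf.pi.range) :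
    Odd (NN φ).index := by
  have := Fintype.ofFinite F
  have e2 := hf.dvd_card hc
  rw [Cfsg.Agent.ClassicalGeometry.PSL2Basic.card_SL2, ← Nat.card_eq_fintype_card, mul_pow] at e2
  have e3 := (NN φ).card_mul_index
  obtain ⟨k, hk⟩ := e2
  have e4 : (c * (Nat.card F ^ 2 - 1) ^ n) * o =
      (c * (Nat.card F ^ 2 - 1) ^ n) * (Nat.card F ^ n * k * (NN φ).index) := by
    rw [← hcard, ← e3, mul_right_comm, hk]; ring
  have hpos : 0 < c * (Nat.card F ^ 2 - 1) ^ n := by
    have h1 : 1 < Nat.card F := Finite.one_lt_card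
    have : 1 < Nat.card F ^ 2 := by nlinarith only [h1]
    have : 0 < (Nat.card F ^ 2 - 1) ^ n := pow_pos (by omega) n
    exact Nat.mul_pos hc0 this
  have e5 := Nat.eq_of_mul_eq_mul_left hpos e4
  rw [e5] at ho
  exact (Nat.odd_mul.1 ho).2

/-- **no group with a frame of odd index stabiliser and with a small kernel** -/
theorem Fr.false_of (hf : Fr d T φ) [Finite G] [Finite F] {th : V → G} {O K0 : Subgroup G} (h : Sit th O K0)
    (h2 : (2 : F) ≠ 0) (hodd : Odd (NN φ).index) (hker : Nat.card hf.M.ker * 2 ^ 8 < 4 ^ n) : False := by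
  -- the subgroup `A`
  let A : Subgroup G :=
    { carrier := Set.range th
      one_mem' := ⟨0, h.zero⟩
      mul_mem' := by
        rintro _ _ ⟨u, rfl⟩ ⟨v, rfl⟩
        exact ⟨u + v, h.add u v⟩
      inv_mem' := by
        rintro _ ⟨u, rfl⟩
        exact ⟨u, (h.inv u).symm⟩ }
  have hAp : IsPGroup 2 A := by
    rintro ⟨_, v, rfl⟩
    exact ⟨1, Subtype.ext (by change th v ^ (2 ^ 1) = 1; rw [pow_one, pow_two, h.sq])⟩
  obtain ⟨c, hc⟩ := hAp.nonempty_fixed_point_of_prime_not_dvd_card (G ⧸ NN φ) (by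
    rw [← even_iff_two_dvd, Nat.not_even_iff_odd]; exact hodd)
  obtain ⟨g, rfl⟩ := QuotientGroup.mk_surjective c
  have hg : ∀ a ∈ A, g⁻¹ * a * g ∈ NN φ := by
    intro a ha
    have h4 : ((a * g : G) : G ⧸ NN φ) = (g : G ⧸ NN φ) := hc ⟨a, ha⟩
    have h5 := QuotientGroup.eq.1 h4.symm
    rwa [← mul_assoc] at h5
  let A' : Subgroup G := A.map (MulAut.conj g⁻¹).toMonoidHom
  have hA'p : IsPGroup 2 A' := hAp.map _
  have hA' : A' ≤ NN φ := by
    rintro _ ⟨a, ha, rfl⟩
    have h4 := hg a ha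
    change g⁻¹ * a * g⁻¹⁻¹ ∈ NN φ
    rwa [inv_inv]
  obtain ⟨R, hR1, hR2, hR3, hR4⟩ := hf.exists_R h2 A' hA'p hA'
  have h5 := Cfsg.Agent.H318.Four.Homo.card_le h (R.map (MulAut.conj g).toMonoidHom) (by
      rintro _ ⟨a, ha, rfl⟩ _ ⟨b, hb, rfl⟩
      rw [← map_mul, hR1 a ha b hb, map_mul]) (by
      rintro _ ⟨a, ha, rfl⟩
      rw [← map_pow, hR2 a ha, map_one]) (by
      rintro v _ ⟨a, ha, rfl⟩
      refine ⟨g⁻¹ * th v * g * a * (g⁻¹ * th v * g)⁻¹, ?_, ?_⟩
      · refine hR3 _ ?_ a ha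
        refine ⟨th v, ⟨v, rfl⟩, ?_⟩
        change g⁻¹ * th v * g⁻¹⁻¹ = _
        rw [inv_inv]
      · change g * (g⁻¹ * th v * g * a * (g⁻¹ * th v * g)⁻¹) * g⁻¹ = th v * (g * a * g⁻¹) * (th v)⁻¹
        group)
  rw [← Nat.card_congr (R.equivMapOfInjective _ (MulAut.conj g).injective).toEquiv] at h5
  have h6 := hR4.trans (Nat.mul_le_mul_left _ h5)
  omega

/-- the 2-part of the order of `E₈(q)` -/
theorem order_eq {q : ℕ} (hq : Odd q) : ∃ o, Odd o ∧
    q ^ 120 * (q ^ 2 - 1) * (q ^ 8 - 1) * (q ^ 12 - 1) * (q ^ 14 - 1) * (q ^ 18 - 1) * (q ^ 20 - 1) * (q ^ 24 - 1) *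
      (q ^ 30 - 1) = 64 * (q ^ 2 - 1) ^ 8 * o := by
  have hpos : 0 < q ^ 2 := pow_pos hq.pos 2
  have key : ∀ m, q ^ (2 * m) - 1 = (q ^ 2 - 1) * ∑ i ∈ Finset.range m, (q ^ 2) ^ i := by
    intro m
    have h1 := Commute.geom_sum₂_mul_add (Commute.one_right (q ^ 2 - 1)) m
    have h2 : q ^ 2 - 1 + 1 = q ^ 2 := by omega
    rw [h2] at h1
    rw [pow_mul, ← h1]
    simp only [one_pow, mul_one, Nat.add_sub_cancel]
    ring
  have hx : ((q ^ 2 : ℕ) : ZMod 8) = 1 := by
    obtain ⟨k, rfl⟩ := hq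
    push_cast
    have : ∀ k : ZMod 8, (2 * k + 1) ^ 2 = 1 := by decide
    exact this k
  have hS : ∀ m, (∑ i ∈ Finset.range m, (q ^ 2) ^ i) % 8 = m % 8 := by
    intro m
    rw [← ZMod.natCast_eq_natCast_iff', Nat.cast_sum]
    simp only [Nat.cast_pow]
    have hx' : ((q : ZMod 8) ^ 2) = 1 := by rw [← hx, Nat.cast_pow]
    simp [hx']
  set S : ℕ → ℕ := fun m => ∑ i ∈ Finset.range m, (q ^ 2) ^ i with hSdef
  have k1 := key 4
  have k2 := key 6
  have k3 := key 7
  have k4 := key 9
  have k5 := key 10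
  have k6 := key 12
  have k7 := key 15
  have s1 := hS 4
  have s2 := hS 6
  have s3 := hS 7
  have s4 := hS 9
  have s5 := hS 10
  have s6 := hS 12
  have s7 := hS 15
  change q ^ 8 - 1 = (q ^ 2 - 1) * S 4 at k1
  change q ^ 12 - 1 = (q ^ 2 - 1) * S 6 at k2
  change q ^ 14 - 1 = (q ^ 2 - 1) * S 7 at k3
  change q ^ 18 - 1 = (q ^ 2 - 1) * S 9 at k4
  change q ^ 20 - 1 = (q ^ 2 - 1) * S 10 at k5
  change q ^ 24 - 1 = (q ^ 2 - 1) * S 12 at k6
  change q ^ 30 - 1 = (q ^ 2 - 1) * S 15 at k7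
  change S 4 % 8 = 4 % 8 at s1
  change S 6 % 8 = 6 % 8 at s2
  change S 7 % 8 = 7 % 8 at s3
  change S 9 % 8 = 9 % 8 at s4
  change S 10 % 8 = 10 % 8 at s5
  change S 12 % 8 = 12 % 8 at s6
  change S 15 % 8 = 15 % 8 at s7
  obtain ⟨a1, ha1⟩ : ∃ a, S 4 = 4 * (2 * a + 1) := ⟨S 4 / 8, by omega⟩
  obtain ⟨a2, ha2⟩ : ∃ a, S 6 = 2 * (2 * a + 1) := ⟨S 6 / 4, by (clear * - s2; omega)⟩
  obtain ⟨a3, ha3⟩ : ∃ a, S 7 = 2 * a + 1 := ⟨S 7 / 2, by (clear * - s3; omega)⟩
  obtain ⟨a4, ha4⟩ : ∃ a, S 9 = 2 * a + 1 := ⟨S 9 / 2, by (clear * - s4; omega)⟩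
  obtain ⟨a5, ha5⟩ : ∃ a, S 10 = 2 * (2 * a + 1) := ⟨S 10 / 4, by (clear * - s5; omega)⟩
  obtain ⟨a6, ha6⟩ : ∃ a, S 12 = 4 * (2 * a + 1) := ⟨S 12 / 8, by omega⟩
  obtain ⟨a7, ha7⟩ : ∃ a, S 15 = 2 * a + 1 := ⟨S 15 / 2, by (clear * - s7; omega)⟩
  refine ⟨q ^ 120 * ((2 * a1 + 1) * (2 * a2 + 1) * (2 * a3 + 1) * (2 * a4 + 1) * (2 * a5 + 1) * (2 * a6 + 1) *
    (2 * a7 + 1)), ?_, ?_⟩
  · have ho : ∀ a : ℕ, Odd (2 * a + 1) := fun a => ⟨a, rfl⟩
    exact hq.pow.mul (((((((ho a1).mul (ho a2)).mul (ho a3)).mul (ho a4)).mul (ho a5)).mul (ho a6)).mul (ho a7))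
  · rw [k1, k2, k3, k4, k5, k6, k7, ha1, ha2, ha3, ha4, ha5, ha6, ha7]
    ring

end Cfsg.Agent.H512.LinFour.FrameA
end

-- part: H512/LinFour/FrameE8Data
section
/-!
# The frame of eight orthogonal roots of `E₈`: tables
-/

set_option autoImplicit false

namespace Cfsg.Agent.H512.LinFour.FrameE8

open Cfsg.Lie Cfsg.Agent.H512.LinFour.FrameA

/-! ### data -/

/-- word of the first translation -/
def wE1 : List ℕ := [4, 2, 3, 1, 3, 2, 4, 4, 3, 3, 3, 4, 6, 5, 4, 3, 2, 1, 3, 4, 5, 6, 7, 0, 2, 3, 4, 5, 6, 1, 3, 4,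
  5, 2, 3, 4, 1, 3, 2, 0, 2, 3, 1, 4, 3, 2, 5, 4, 3, 1, 6, 5, 4, 3, 2, 0, 7, 6, 5, 4, 3, 1, 2, 3, 4, 5, 6, 7, 0, 2,
  3, 4, 5, 6, 1, 3, 4, 5, 2, 3, 4, 1, 3, 2, 0, 0, 0, 2, 3, 1, 4, 3, 2, 5, 4, 3, 1, 6, 5, 4, 3, 2, 0, 7]

/-- word of the second translation -/
def wE2 : List ℕ := [4, 2, 3, 1, 3, 2, 4, 3, 2, 2, 2, 3, 6, 5, 4, 3, 2, 1, 3, 4, 5, 6, 7, 0, 2, 3, 4, 5, 6, 1, 3, 4,
  5, 2, 3, 4, 1, 3, 2, 0, 2, 3, 1, 4, 3, 2, 5, 4, 3, 1, 6, 5, 4, 3, 2, 0, 7, 6, 5, 4, 3, 1, 2, 3, 4, 5, 6, 7, 6, 7]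

/-- word of the third translation -/
def wE3 : List ℕ := [6, 5, 4, 2, 3, 1, 3, 2, 4, 5, 6, 5, 4, 3, 2, 2, 2, 3, 4, 5, 4, 3, 2, 1, 3, 4, 5, 6, 7, 0, 2, 3,
  4, 5, 6, 1, 3, 4, 5, 2, 3, 4, 1, 3, 2, 0, 2, 3, 1, 4, 3, 2, 5, 4, 3, 1, 6, 5, 4, 3, 2, 0, 7, 6, 5, 4, 3, 1, 2, 3,
  4, 7, 6, 5, 4, 5, 6, 7]

/-- word of the first transvection -/
def wA : List ℕ := [4, 3, 2, 1, 3, 4, 5, 6, 7, 0, 2, 3, 4, 5, 6, 1, 3, 4, 5, 2, 3, 4, 1, 3, 2, 0, 2, 3, 1, 4, 3, 2,
  5, 4, 3, 1, 6, 5, 4, 3, 2, 0, 7, 6, 5, 4, 3, 1, 2, 3, 4, 5, 6, 7, 0, 2, 3, 4, 5, 6, 1, 3, 4, 5, 2, 3, 4, 1, 3, 2,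
  0, 0, 0, 2, 3, 1, 4, 3, 2, 5, 4, 3, 1, 6, 5, 4, 3, 2, 0, 7, 6, 5]

/-- word of the second transvection -/
def wB : List ℕ := [6, 5, 4, 3, 2, 1, 3, 4, 5, 6, 7, 0, 2, 3, 4, 5, 6, 1, 3, 4, 5, 2, 3, 4, 1, 3, 2, 0, 2, 3, 1, 4,
  3, 2, 5, 4, 3, 1, 6, 5, 4, 3, 2, 0, 7, 6, 5, 4, 3, 1, 2, 3, 4, 5, 6, 7, 6, 7]

/-- words of the roots of the frame -/
def pw : Fin 8 → List ℕ := ![[], [], [], [], [3, 4, 2, 3], [5, 6, 4, 5, 3, 4, 2, 3], [0, 2, 3, 4, 5, 6, 1, 3, 4, 5,
  2, 3, 4, 1, 3, 2], [7, 6, 5, 4, 3, 2, 1, 3, 4, 5, 6, 7, 0, 2, 3, 4, 5, 6, 1, 3, 4, 5, 2, 3, 4, 1, 3, 2]]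

/-- simple roots below the roots of the frame -/
def pj : Fin 8 → Fin 8 := ![1, 2, 4, 6, 1, 1, 0, 0]

/-- the frame -/
def fr : Fin 8 → ℕ := ![141, 135, 126, 121, 152, 159, 226, 239]

/-- the action of a word on the roots -/
def act (w : List ℕ) (s : ℕ) : ℕ := w.foldr (fun i s => chevE8.reflectRoot i s) s

/-- the check that the word `w` permutes the frame as `σ` -/
def chk (w : List ℕ) (σ : Fin 8 → Fin 8) : Bool :=
  decide (∀ i : Fin 8, (act w (fr i) = fr (σ i) ∧ act w (chevE8.neg (fr i)) = chevE8.neg (fr (σ i))) ∨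
    (act w (fr i) = chevE8.neg (fr (σ i)) ∧ act w (chevE8.neg (fr i)) = fr (σ i)))

/-- the action of the fundamental reflections on the roots, base `256` -/
def rL : List ℕ :=
  [89010710832726070714151161094414522261048587326581510595392028524030207563957026801107561780730543875635899695872657540013727267355752929009945983259756149830046491061614462711827468647410691219483793969699872786852253216181086040217948769591709564461412580249235256415527480204464476331546285723345807496788342194623506928674460502856817942549765057009024427281542244180397900240359504473124310118170232911525014401390998667463253019886626284409262937152958555578213187162928665144744945462487135302530904835859273767658661597756841433802992835089440598390061610903988634517760,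
   89010710832725403821992757481139071596698173965191600472753702822147364158672239454480583766054916428145578667561196346286240294973106193453481602022994238457747057000441148872921567985804927830925184562410761361820642221993159403124364699503886667373585590236200204532233412719031984404037316613648740789033672441744072877792284927471549198215319587161646246739142712406116015301396244861203768991281616970164435876457802828834673089209444828885868975419990867550410752616208765434029454275512555058899218984728513362813046938098819618253410658999715481853523381007317721022720,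
   89010710832725745165782235459872475154280622121245305451935284189796891986609553508120115617800247381425903506913793501621740144058856426409726296520870105944088071210077208036158123281336922507974837557012631125147342853176418750825867691433342788636856825459490268921107323757655376441022236038140059219790486132896388440655383746867478063393865412376222232171226315736044435218013124881770230153482484127468225324367815592321859374033917761553313348740424564716417650837788186550135374827969386553419933334973793356178552598849513931315254120302644802431154599699746591473920,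
   89010710832640042910111002570656357653715391413141566596331023776964856083669365258548140478906507872628955595684419254834843229232697776527642939107948214787375489097164882990093468904723498389665687901900427190291264427804358237891932228052664145351264877813819956450891804972988388003365098856358027288215824823748769396133189946047224742087238448032137898031788973343765419247008549016964559503462021292736161599259527505720347129268890925678250880711178934622972084815217513580310228965341853079554683461698062554884656178636540855221896711318667953180723757473301824405760,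
   89010710810700264150582617630331042255881895932910918226714852776874391712560822123306201324846964430844654021744796813142187524010757855487702572916830330127298365693899458709456758086075824036756691770046586241064145029133056116495308293743993175776525086010282095515927038476928213975218102397351640852387061258815504561004829092548212349860608510285292324260881662547262759342960965261517043933646963449207241238405678966067672724730749373320049762418207315511506201541333274614526630211416916896943463791273270459031700074181856090797289197533059447945620264098913323188480,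
   89010705194116901706207898042593272076635715598316080962368373660183275904963211241670112868150747514853452339348300442536856573504108070476071578517515459877170448087740084341605535907786739352171560154020690462814959752126950608726406504555309146021826472933762216957718802688115433395906838355161543700798538259399617365590114206434373053162203444095549298876781670225955956867766795389687715615088611026287293754751444324085777775017164061220134326830106176777561728721517073324255709968496742906099242262077598598897834567242933249561462858944112061751703801260570581336320,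
   89009267348776115946259729773659820922684365030336125747795389469672832738436486560006107076294386215399861108218061426761033223202858027703265974144867968881077088308644070388014335446175521462296218898606490586008687349314690079072884976809321978274044767002146488503282587066531463532201212884356974697146753815329103501718218155712615386612077501918825553327818300954160685785812314943431026242586854979814233718477042248871847137512423246283316098823861341191045350782894843980481615436882682789356038401372194376474142161795991775560137622389820726250948292215778419212800,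
   88641178941534961399528574982133574396814677498906256381400989866246665564627449953229161844680194659074190077933092506923116215135179707304662642718937925229953648022107495859618087372822661764163967864959498616813225990959921021107342227069879379961702186122601970179144962718114610669862116384906490085474227268535270866071537994068712179526991254658483445889533178669162414355083484286780054293952034942920139124176531856893144339475625188267984313062904125435984721199090783521652049076887975122872968631645246134704052914889999252209582043955376412284065663104007717126145]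

/-- the table of the fundamental reflections -/
def rf (i s : ℕ) : ℕ := (rL.getD i 0 >>> (8 * s)) % 256

theorem rf_0 : ∀ s < 240, chevE8.reflectRoot 0 s = rf 0 s ∧ rf 0 s < 240 := by (delta Cfsg.Lie.ChevalleyDatum.chainRoot Cfsg.Lie.ChevalleyDatum.reflectRoot; rewrite [Cfsg.Agent.ChevFast.E8.cartan, Cfsg.Agent.ChevFast.E8.chainEntry, Cfsg.Agent.ChevFast.E8.neg]; open scoped Cfsg.Agent.ChevFast.Lin in decide +kernel)
theorem rf_1 : ∀ s < 240, chevE8.reflectRoot 1 s = rf 1 s ∧ rf 1 s < 240 := by (delta Cfsg.Lie.ChevalleyDatum.chainRoot Cfsg.Lie.ChevalleyDatum.reflectRoot; rewrite [Cfsg.Agent.ChevFast.E8.cartan, Cfsg.Agent.ChevFast.E8.chainEntry, Cfsg.Agent.ChevFast.E8.neg]; open scoped Cfsg.Agent.ChevFast.Lin in decide +kernel)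
theorem rf_2 : ∀ s < 240, chevE8.reflectRoot 2 s = rf 2 s ∧ rf 2 s < 240 := by (delta Cfsg.Lie.ChevalleyDatum.chainRoot Cfsg.Lie.ChevalleyDatum.reflectRoot; rewrite [Cfsg.Agent.ChevFast.E8.cartan, Cfsg.Agent.ChevFast.E8.chainEntry, Cfsg.Agent.ChevFast.E8.neg]; open scoped Cfsg.Agent.ChevFast.Lin in decide +kernel)
theorem rf_3 : ∀ s < 240, chevE8.reflectRoot 3 s = rf 3 s ∧ rf 3 s < 240 := by (delta Cfsg.Lie.ChevalleyDatum.chainRoot Cfsg.Lie.ChevalleyDatum.reflectRoot; rewrite [Cfsg.Agent.ChevFast.E8.cartan, Cfsg.Agent.ChevFast.E8.chainEntry, Cfsg.Agent.ChevFast.E8.neg]; decide +kernel)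
theorem rf_4 : ∀ s < 240, chevE8.reflectRoot 4 s = rf 4 s ∧ rf 4 s < 240 := by (delta Cfsg.Lie.ChevalleyDatum.chainRoot Cfsg.Lie.ChevalleyDatum.reflectRoot; rewrite [Cfsg.Agent.ChevFast.E8.cartan, Cfsg.Agent.ChevFast.E8.chainEntry, Cfsg.Agent.ChevFast.E8.neg]; decide +kernel)
theorem rf_5 : ∀ s < 240, chevE8.reflectRoot 5 s = rf 5 s ∧ rf 5 s < 240 := by (delta Cfsg.Lie.ChevalleyDatum.chainRoot Cfsg.Lie.ChevalleyDatum.reflectRoot; rewrite [Cfsg.Agent.ChevFast.E8.cartan, Cfsg.Agent.ChevFast.E8.chainEntry, Cfsg.Agent.ChevFast.E8.neg]; open scoped Cfsg.Agent.ChevFast.Lin in decide +kernel)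
theorem rf_6 : ∀ s < 240, chevE8.reflectRoot 6 s = rf 6 s ∧ rf 6 s < 240 := by (delta Cfsg.Lie.ChevalleyDatum.chainRoot Cfsg.Lie.ChevalleyDatum.reflectRoot; rewrite [Cfsg.Agent.ChevFast.E8.cartan, Cfsg.Agent.ChevFast.E8.chainEntry, Cfsg.Agent.ChevFast.E8.neg]; open scoped Cfsg.Agent.ChevFast.Lin in decide +kernel)
theorem rf_7 : ∀ s < 240, chevE8.reflectRoot 7 s = rf 7 s ∧ rf 7 s < 240 := by (delta Cfsg.Lie.ChevalleyDatum.chainRoot Cfsg.Lie.ChevalleyDatum.reflectRoot; rewrite [Cfsg.Agent.ChevFast.E8.cartan, Cfsg.Agent.ChevFast.E8.chainEntry, Cfsg.Agent.ChevFast.E8.neg]; open scoped Cfsg.Agent.ChevFast.Lin in decide +kernel)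

theorem rf_spec {i : ℕ} (hi : i < 8) {s : ℕ} (hs : s < 240) : chevE8.reflectRoot i s = rf i s ∧ rf i s < 240 := by
  rcases (by omega : i = 0 ∨ i = 1 ∨ i = 2 ∨ i = 3 ∨ i = 4 ∨ i = 5 ∨ i = 6 ∨ i = 7) with
    rfl | rfl | rfl | rfl | rfl | rfl | rfl | rfl
  · exact rf_0 s hs
  · exact rf_1 s hs
  · exact rf_2 s hs
  · exact rf_3 s hs
  · exact rf_4 s hs
  · exact rf_5 s hs
  · exact rf_6 s hs
  · exact rf_7 s hs

/-- the action of a word, by the table -/
def actT (w : List ℕ) (s : ℕ) : ℕ := w.foldr (fun i s => rf i s) s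

theorem act_eq {w : List ℕ} (hw : ∀ i ∈ w, i < 8) {s : ℕ} (hs : s < 240) : act w s = actT w s ∧ actT w s < 240 := by
  induction w with
  | nil => exact ⟨rfl, hs⟩
  | cons i w ih =>
    have h1 := ih fun j hj => hw j (List.mem_cons_of_mem _ hj)
    have h2 := rf_spec (hw i List.mem_cons_self) h1.2
    have e1 : act (i :: w) s = chevE8.reflectRoot i (act w s) := rfl
    have e2 : actT (i :: w) s = rf i (actT w s) := rfl
    rw [e1, e2, h1.1]
    exact h2

theorem fr_lt' : ∀ i : Fin 8, fr i < 240 ∧ chevE8.neg (fr i) < 240 := by (rewrite [Cfsg.Agent.ChevFast.E8.neg]; decide +kernel)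

/-- the check by the table -/
def chkT (w : List ℕ) (σ : Fin 8 → Fin 8) : Bool :=
  decide (∀ i : Fin 8, (actT w (fr i) = fr (σ i) ∧ actT w (chevE8.neg (fr i)) = chevE8.neg (fr (σ i))) ∨
    (actT w (fr i) = chevE8.neg (fr (σ i)) ∧ actT w (chevE8.neg (fr i)) = fr (σ i)))

theorem chk_of {w : List ℕ} (hw : ∀ i ∈ w, i < 8) {σ : Fin 8 → Fin 8} (h : chkT w σ = true) : chk w σ = true := by
  rw [chk, decide_eq_true_eq]
  rw [chkT, decide_eq_true_eq] at h
  intro i
  rw [(act_eq hw (fr_lt' i).1).1, (act_eq hw (fr_lt' i).2).1]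
  exact h i

theorem ltw : ∀ w ∈ [wE1, wE2, wE3, wA, wB], ∀ i ∈ w, i < 8 := by decide +kernel

theorem chkTE1 : chkT wE1 pE1 = true := by (delta Cfsg.Agent.H512.LinFour.FrameE8.chkT; rewrite [Cfsg.Agent.ChevFast.E8.neg]; decide +kernel)
theorem chkTE2 : chkT wE2 pE2 = true := by (delta Cfsg.Agent.H512.LinFour.FrameE8.chkT; rewrite [Cfsg.Agent.ChevFast.E8.neg]; decide +kernel)
theorem chkTE3 : chkT wE3 pE3 = true := by (delta Cfsg.Agent.H512.LinFour.FrameE8.chkT; rewrite [Cfsg.Agent.ChevFast.E8.neg]; decide +kernel)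
theorem chkTA : chkT wA pA = true := by (delta Cfsg.Agent.H512.LinFour.FrameE8.chkT; rewrite [Cfsg.Agent.ChevFast.E8.neg]; decide +kernel)
theorem chkTB : chkT wB pB = true := by (delta Cfsg.Agent.H512.LinFour.FrameE8.chkT; rewrite [Cfsg.Agent.ChevFast.E8.neg]; decide +kernel)

theorem chkE1 : chk wE1 pE1 = true := chk_of (ltw _ (by simp)) chkTE1
theorem chkE2 : chk wE2 pE2 = true := chk_of (ltw _ (by simp)) chkTE2
theorem chkE3 : chk wE3 pE3 = true := chk_of (ltw _ (by simp)) chkTE3
theorem chkA : chk wA pA = true := chk_of (ltw _ (by simp)) chkTA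
theorem chkB : chk wB pB = true := chk_of (ltw _ (by simp)) chkTB

theorem ltp : ∀ j : Fin 8, ∀ i ∈ pw j, i < 8 := by decide +kernel

theorem chkp : ∀ j : Fin 8, act (pw j) (chevE8.simple (pj j)) = fr j ∧
    act (pw j) (chevE8.neg (chevE8.simple (pj j))) = chevE8.neg (fr j) := by (delta Cfsg.Agent.H512.LinFour.FrameE8.act Cfsg.Lie.ChevalleyDatum.chainRoot Cfsg.Lie.ChevalleyDatum.reflectRoot; rewrite [Cfsg.Agent.ChevFast.E8.cartan, Cfsg.Agent.ChevFast.E8.chainEntry, Cfsg.Agent.ChevFast.E8.neg]; decide +kernel)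

end Cfsg.Agent.H512.LinFour.FrameE8
end

-- part: H512/LinFour/FrameE8
section
/-!
# The frame of eight orthogonal roots of `E₈` and the row `E₈(q)`, `q` odd, of S1918
-/

set_option autoImplicit false

namespace Cfsg.Agent.H512.LinFour.FrameE8

open Subgroup Cfsg.Agent.H336.LinFour Cfsg.Agent.H512.LinFour.FrameA
open Cfsg.Lie Cfsg.Agent.ChevalleyStructure Cfsg.Agent.ChevalleyStructure.Elts
  Cfsg.Agent.ChevalleyStructure.NPerm Cfsg.Agent.ChevalleyStructure.CoxeterGeomTypes Cfsg.Agent.Nodes.RGDChev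
  Cfsg.Agent.KFacts.RgdChevCoord Cfsg.Agent.OddHalf.NI.ModelChev
open Cfsg.Agent.FixBN.FieldRGD (uu vv dd ww)
open Cfsg.Agent.Nodes.KindE (isType8)
open scoped MatrixGroups

universe u

theorem hD8 : InList chevE8 := isType8.inList

variable {K : Type u} [Field K]

/-- the group generated by two opposite root subgroups -/
def RR (K : Type u) [Field K] (r : ℕ) : Subgroup (GL chevE8.Idx K) :=
  chevE8.rootSubgroup K r ⊔ chevE8.rootSubgroup K (chevE8.neg r)

theorem exists_phi {r : ℕ} (hr : r < chevE8.nroots) : ∃ φ : SL(2, K) →* ↥(chevE8.group K),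
    (∀ a, ((φ (uu a) : ↥(chevE8.group K)) : GL chevE8.Idx K) = xG hD8 r a) ∧
    (∀ a, ((φ (vv a) : ↥(chevE8.group K)) : GL chevE8.Idx K) = xG hD8 (chevE8.neg r) a) ∧
    (∀ c hc, ((φ (dd c hc) : ↥(chevE8.group K)) : GL chevE8.Idx K) = hG hD8 r c) ∧
    φ.range.map (chevE8.group K).subtype = RR K r := by
  obtain ⟨φ, h1, h2, h3, h4, h5⟩ := exists_sl isType8 (K := K) hr
  refine ⟨φ, fun a => ?_, fun a => ?_, h4, ?_⟩
  · rw [h1, coe_xc isType8 hr]
  · rw [h2, coe_xc_neg isType8 hr]
  · rw [h5, Subgroup.map_sup]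
    have e1 : (_root_.Cfsg.Agent.KFacts.RgdChevCoord.XX chevE8 8 K (vec chevE8 8 r)).map (chevE8.group K).subtype = chevE8.rootSubgroup K r := by
      rw [← XV_vec isType8 K hr]
      exact (subgroupOf_map_subtype _ _).trans (inf_eq_left.2 (XV_le_group isType8 _))
    have e2 : (_root_.Cfsg.Agent.KFacts.RgdChevCoord.XX chevE8 8 K (-(vec chevE8 8 r))).map (chevE8.group K).subtype =
        chevE8.rootSubgroup K (chevE8.neg r) := by
      rw [← vec_neg isType8 hr, ← XV_vec isType8 K (neg_lt isType8.inList hr)]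
      exact (subgroupOf_map_subtype _ _).trans (inf_eq_left.2 (XV_le_group isType8 _))
    rw [e1, e2]
    rfl

theorem fr_lt : ∀ i : Fin 8, fr i < chevE8.nroots := by decide +kernel

/-- the frame -/
noncomputable def phi (K : Type u) [Field K] (i : Fin 8) : SL(2, K) →* ↥(chevE8.group K) :=
  (exists_phi (K := K) (fr_lt i)).choose

theorem phi_uu (i : Fin 8) (a : K) : ((phi K i (uu a) : ↥(chevE8.group K)) : GL chevE8.Idx K) = xG hD8 (fr i) a :=
  (exists_phi (K := K) (fr_lt i)).choose_spec.1 a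

theorem phi_vv (i : Fin 8) (a : K) :
    ((phi K i (vv a) : ↥(chevE8.group K)) : GL chevE8.Idx K) = xG hD8 (chevE8.neg (fr i)) a :=
  (exists_phi (K := K) (fr_lt i)).choose_spec.2.1 a

theorem phi_dd (i : Fin 8) (c : K) (hc : c ≠ 0) :
    ((phi K i (dd c hc) : ↥(chevE8.group K)) : GL chevE8.Idx K) = hG hD8 (fr i) c :=
  (exists_phi (K := K) (fr_lt i)).choose_spec.2.2.1 c hc

theorem phi_range (i : Fin 8) : (phi K i).range.map (chevE8.group K).subtype = RR K (fr i) :=
  (exists_phi (K := K) (fr_lt i)).choose_spec.2.2.2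

/-! ### words -/

/-- the product of a word -/
noncomputable def nW (K : Type u) [Field K] (w : List ℕ) : GL chevE8.Idx K :=
  (w.map fun i => nG hD8 (chevE8.simple i) (1 : K)).prod

theorem nW_mem (w : List ℕ) : nW K w ∈ chevE8.group K := by
  refine Subgroup.list_prod_mem _ ?_
  intro x hx
  obtain ⟨i, -, rfl⟩ := List.mem_map.1 hx
  exact nG_mem_group hD8 _ _

theorem conj_nW {w : List ℕ} (hw : ∀ i ∈ w, i < 8) {s : ℕ} (hs : s < chevE8.nroots) :
    act w s < chevE8.nroots ∧ ConjRoot chevE8 K (nW K w) s (act w s) := by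
  induction w with
  | nil => exact ⟨hs, conjRoot_one s⟩
  | cons i w ih =>
    obtain ⟨h1, h2⟩ := ih (fun j hj => hw j (List.mem_cons_of_mem _ hj))
    have hi : i < chevE8.rank := hw i List.mem_cons_self
    exact ⟨reflectRoot_lt hD8 hi h1, h2.mul (conjRoot_nG hD8 hi h1)⟩

theorem neg_lt8 {s : ℕ} (hs : s < chevE8.nroots) : chevE8.neg s < chevE8.nroots := NPerm.neg_lt hD8 hs

/-- conjugation of the rank one groups -/
theorem map_RR {n : GL chevE8.Idx K} {r s : ℕ} (h : (ConjRoot chevE8 K n r s ∧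
      ConjRoot chevE8 K n (chevE8.neg r) (chevE8.neg s)) ∨
      (ConjRoot chevE8 K n r (chevE8.neg s) ∧ ConjRoot chevE8 K n (chevE8.neg r) s)) :
    (RR K r).map (MulAut.conj n).toMonoidHom = RR K s := by
  unfold RR
  rw [Subgroup.map_sup]
  rcases h with ⟨h1, h2⟩ | ⟨h1, h2⟩
  · rw [h1, h2]
  · rw [h1, h2, sup_comm]

theorem isPerm_of {w : List ℕ} {σ : Equiv.Perm (Fin 8)} (hw : ∀ i ∈ w, i < 8) (h : chk w σ = true) :
    ∃ g, IsPerm (phi K) g σ := by
  refine ⟨⟨nW K w, nW_mem w⟩, fun i => ?_⟩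
  apply Subgroup.map_injective (chevE8.group K).subtype_injective
  rw [phi_range, Subgroup.map_map]
  have e : ((chevE8.group K).subtype.comp (MulAut.conj (⟨nW K w, nW_mem w⟩ : ↥(chevE8.group K))).toMonoidHom) =
      (MulAut.conj (nW K w)).toMonoidHom.comp (chevE8.group K).subtype := by
    ext x; rfl
  rw [e, ← Subgroup.map_map, phi_range]
  apply map_RR
  have h1 := of_decide_eq_true h i
  have h2 := (conj_nW (K := K) hw (fr_lt i)).2
  have h3 := (conj_nW (K := K) hw (neg_lt8 (fr_lt i))).2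
  rcases h1 with ⟨h4, h5⟩ | ⟨h4, h5⟩
  · left
    rw [h4] at h2
    rw [h5] at h3
    exact ⟨h2, h3⟩
  · right
    rw [h4] at h2
    rw [h5] at h3
    exact ⟨h2, h3⟩

/-! ### the frame -/

set_option backward.isDefEq.respectTransparency false in
theorem car8 : ∀ i : Fin 8, ∃ j : Fin 8, cartanOf chevE8 8 i j = -1 := by (delta Cfsg.Agent.ChevalleyStructure.CoxeterGeomTypes.cartanOf; rewrite [Cfsg.Agent.ChevFast.E8.cartan]; decide +kernel)

theorem card_range (i : Fin 8) [Finite K] : Nat.card (phi K i).range = Nat.card SL(2, K) := by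
  obtain ⟨p, hp⟩ := CharP.exists K
  have := Fintype.ofFinite K
  have hpr : Fact p.Prime := ⟨CharP.char_is_prime K p⟩
  obtain ⟨j, hj⟩ := car8 (pj i)
  have h1 := sl_injective isType8 (K := K) p hj
  have h2 : (sl isType8 (K := K) (pj i)).range.map (chevE8.group K).subtype = RR K (chevE8.simple (pj i)) := by
    have hs := simple_lt isType8.inList (lt_rank isType8 (pj i))
    rw [range_sl, ← vec_simple isType8 (pj i), Subgroup.map_sup]
    have e1 : (_root_.Cfsg.Agent.KFacts.RgdChevCoord.XX chevE8 8 K (vec chevE8 8 (chevE8.simple (pj i)))).map (chevE8.group K).subtype =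
        chevE8.rootSubgroup K (chevE8.simple (pj i)) := by
      rw [← XV_vec isType8 K hs]
      exact (subgroupOf_map_subtype _ _).trans (inf_eq_left.2 (XV_le_group isType8 _))
    have e2 : (_root_.Cfsg.Agent.KFacts.RgdChevCoord.XX chevE8 8 K (-(vec chevE8 8 (chevE8.simple (pj i))))).map (chevE8.group K).subtype =
        chevE8.rootSubgroup K (chevE8.neg (chevE8.simple (pj i))) := by
      rw [← vec_neg isType8 hs, ← XV_vec isType8 K (neg_lt isType8.inList hs)]
      exact (subgroupOf_map_subtype _ _).trans (inf_eq_left.2 (XV_le_group isType8 _))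
    rw [e1, e2]
    rfl
  have hs := simple_lt isType8.inList (lt_rank isType8 (pj i))
  have h3 := (conj_nW (K := K) (ltp i) hs).2
  have h4 := (conj_nW (K := K) (ltp i) (neg_lt8 hs)).2
  rw [(chkp i).1] at h3
  rw [(chkp i).2] at h4
  have h5 := map_RR (Or.inl ⟨h3, h4⟩)
  rw [Nat.card_congr ((phi K i).range.equivMapOfInjective _ (chevE8.group K).subtype_injective).toEquiv, phi_range,
    ← h5, ← Nat.card_congr ((RR K (chevE8.simple (pj i))).equivMapOfInjective _ (MulAut.conj _).injective).toEquiv,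
    ← h2, ← Nat.card_congr ((sl isType8 (K := K) (pj i)).range.equivMapOfInjective _
      (chevE8.group K).subtype_injective).toEquiv]
  exact (Nat.card_congr (MonoidHom.ofInjective h1).toEquiv).symm

theorem phi_injective (i : Fin 8) [Finite K] : Function.Injective (phi K i) := by
  have h1 := Cfsg.Agent.H318.Four.Homo.card_ker_range (phi K i)
  rw [card_range i] at h1
  have hfin : Finite SL(2, K) := inferInstance
  have hpos : 0 < Nat.card SL(2, K) := Nat.card_pos
  have h2 : Nat.card (phi K i).ker = 1 := by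
    have : Nat.card (phi K i).ker * Nat.card SL(2, K) = 1 * Nat.card SL(2, K) := by rw [← h1, one_mul]
    exact Nat.eq_of_mul_eq_mul_right hpos this
  rw [Subgroup.card_eq_one] at h2
  exact (MonoidHom.ker_eq_bot_iff _).1 h2

theorem chkc : ∀ i j : Fin 8, i ≠ j → (fr j ≠ fr i ∧ fr j ≠ chevE8.neg (fr i) ∧ chevE8.commTerms (fr i) (fr j) = []) ∧
    (fr j ≠ chevE8.neg (fr i) ∧ fr j ≠ chevE8.neg (chevE8.neg (fr i)) ∧
      chevE8.commTerms (chevE8.neg (fr i)) (fr j) = []) ∧
    (chevE8.neg (fr j) ≠ chevE8.neg (fr i) ∧ chevE8.neg (fr j) ≠ chevE8.neg (chevE8.neg (fr i)) ∧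
      chevE8.commTerms (chevE8.neg (fr i)) (chevE8.neg (fr j)) = []) := by (rewrite [Cfsg.Agent.ChevFast.E8.commTerms, Cfsg.Agent.ChevFast.E8.neg]; decide +kernel)

theorem comm_of {r s : ℕ} (hr : r < chevE8.nroots) (hs : s < chevE8.nroots)
    (h : s ≠ r ∧ s ≠ chevE8.neg r ∧ chevE8.commTerms r s = []) (t u : K) :
    xG hD8 r t * xG hD8 s u = xG hD8 s u * xG hD8 r t := by
  have h1 := comm_xG isType8 (K := K) hr hs h.1 h.2.1 t u
  have h2 : chevE8.commWord K r s t u = [] := by
    rw [ChevalleyDatum.commWord, h.2.2]; rfl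
  rw [h2, wordG_nil, commutatorElement_def, inv_inv, inv_inv] at h1
  have h3 : (xG hD8 s u)⁻¹ * (xG hD8 r t)⁻¹ * xG hD8 s u * xG hD8 r t =
      (xG hD8 r t * xG hD8 s u)⁻¹ * (xG hD8 s u * xG hD8 r t) := by group
  have h4 := h3.symm.trans h1
  rw [inv_mul_eq_one] at h4
  exact h4

theorem phi_comm {i j : Fin 8} (hij : i ≠ j) (x y : SL(2, K)) : phi K i x * phi K j y = phi K j y * phi K i x := by
  obtain ⟨c1, c2, c3⟩ := chkc i j hij
  obtain ⟨c4, c5, c6⟩ := chkc j i hij.symm
  have hi := fr_lt i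
  have hj := fr_lt j
  have uu_uu : ∀ a b, phi K i (uu a) * phi K j (uu b) = phi K j (uu b) * phi K i (uu a) := fun a b => by
    apply Subtype.ext
    rw [Subgroup.coe_mul, Subgroup.coe_mul, phi_uu, phi_uu]
    exact comm_of hi hj c1 a b
  have vv_uu : ∀ a b, phi K i (vv a) * phi K j (uu b) = phi K j (uu b) * phi K i (vv a) := fun a b => by
    apply Subtype.ext
    rw [Subgroup.coe_mul, Subgroup.coe_mul, phi_vv, phi_uu]
    exact comm_of (neg_lt8 hi) hj c2 a b
  have uu_vv : ∀ a b, phi K i (uu a) * phi K j (vv b) = phi K j (vv b) * phi K i (uu a) := fun a b => by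
    apply Subtype.ext
    rw [Subgroup.coe_mul, Subgroup.coe_mul, phi_vv, phi_uu]
    exact (comm_of (neg_lt8 hj) hi c5 b a).symm
  have vv_vv : ∀ a b, phi K i (vv a) * phi K j (vv b) = phi K j (vv b) * phi K i (vv a) := fun a b => by
    apply Subtype.ext
    rw [Subgroup.coe_mul, Subgroup.coe_mul, phi_vv, phi_vv]
    exact comm_of (neg_lt8 hi) (neg_lt8 hj) c3 a b
  -- from the unipotents to everything
  have key : ∀ z : ↥(chevE8.group K), (∀ a, phi K i (uu a) * z = z * phi K i (uu a)) →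
      (∀ a, phi K i (vv a) * z = z * phi K i (vv a)) → ∀ x, phi K i x * z = z * phi K i x := by
    intro z h1 h2 x
    have h3 : (centralizer {z}).comap (phi K i) = ⊤ :=
      Cfsg.Agent.OddHalf.NI.Mult.mem_of_up_lo (fun a => mem_centralizer_singleton_iff.2 (h1 a))
        (fun a => mem_centralizer_singleton_iff.2 (h2 a))
    have h4 : x ∈ (centralizer {z}).comap (phi K i) := by rw [h3]; trivial
    exact mem_centralizer_singleton_iff.1 h4
  have key' : ∀ z : ↥(chevE8.group K), (∀ a, phi K j (uu a) * z = z * phi K j (uu a)) →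
      (∀ a, phi K j (vv a) * z = z * phi K j (vv a)) → ∀ x, phi K j x * z = z * phi K j x := by
    intro z h1 h2 x
    have h3 : (centralizer {z}).comap (phi K j) = ⊤ :=
      Cfsg.Agent.OddHalf.NI.Mult.mem_of_up_lo (fun a => mem_centralizer_singleton_iff.2 (h1 a))
        (fun a => mem_centralizer_singleton_iff.2 (h2 a))
    have h4 : x ∈ (centralizer {z}).comap (phi K j) := by rw [h3]; trivial
    exact mem_centralizer_singleton_iff.1 h4
  refine (key' (phi K i x) (fun b => ?_) (fun b => ?_) y).symm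
  · exact (key (phi K j (uu b)) (fun a => uu_uu a b) (fun a => vv_uu a b) x).symm
  · exact (key (phi K j (vv b)) (fun a => uu_vv a b) (fun a => vv_vv a b) x).symm

/-- the torus -/
def TT8 (K : Type u) [Field K] : Subgroup ↥(chevE8.group K) := (chevE8.diagonalSubgroup K).subgroupOf (chevE8.group K)

theorem conj_torus {t : ↥(chevE8.group K)} (ht : t ∈ TT8 K) {r : ℕ} (hr : r < chevE8.nroots) (a : K) :
    ∃ b, (t : GL chevE8.Idx K) * xG hD8 r a * (t : GL chevE8.Idx K)⁻¹ = xG hD8 r b := by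
  have h1 := conjRoot_diagonal hD8 (F := K) (mem_subgroupOf.1 ht) hr
  have h2 : (MulAut.conj (t : GL chevE8.Idx K)).toMonoidHom (xG hD8 r a) ∈ chevE8.rootSubgroup K r := by
    rw [← h1]
    exact ⟨_, xG_mem_rootSubgroup hD8 r a, rfl⟩
  exact (mem_rootSubgroup_iff hD8 r _).1 h2

theorem frame (K : Type u) [Field K] [Finite K] : Fr 1 (TT8 K) (phi K) where
  inj i := phi_injective i
  comm i j hij := phi_comm hij
  cardT := by
    have := Fintype.ofFinite K
    have h1 := Cfsg.Agent.S1035.result (F := K) rfl (chevE8, 1) (by simp only [_root_.List.mem_cons, _root_.Prod.mk.injEq, _root_.and_true, _root_.List.not_mem_nil, _root_.or_false, _root_.true_or, _root_.or_true])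
    rw [one_mul] at h1
    have hle : chevE8.diagonalSubgroup K ≤ chevE8.group K := diagonal_le_group hD8 K
    rw [Nat.card_eq_fintype_card (α := K), mul_one]
    refine Eq.trans ?_ h1
    exact Nat.card_congr (Subgroup.subgroupOfEquivOfLe hle).toEquiv
  dd i c hc := by
    refine mem_subgroupOf.2 ?_
    rw [phi_dd]
    exact hG_mem_diagonal hD8 (fr_lt i) hc
  up t ht i a := by
    obtain ⟨b, hb⟩ := conj_torus ht (fr_lt i) a
    refine ⟨b, Subtype.ext ?_⟩
    rw [phi_uu, ← hb, Subgroup.coe_mul, Subgroup.coe_mul, phi_uu]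
    rfl
  lo t ht i a := by
    obtain ⟨b, hb⟩ := conj_torus ht (neg_lt8 (fr_lt i)) a
    refine ⟨b, Subtype.ext ?_⟩
    rw [phi_vv, ← hb, Subgroup.coe_mul, Subgroup.coe_mul, phi_vv]
    rfl

/-- **row `E₈(q)`, `q` odd** -/
theorem row_E8 {G : Type*} [Group G] {th : V → G} {O K0 : Subgroup G} (h : Sit th O K0) {F : Type u} [Field F]
    [Fintype F] (ho : Odd (Fintype.card F)) (e : G ≃* chevE8.group F) : False := by
  have h' := h.equiv e
  have hfin : Finite ↥(chevE8.group F) := inferInstance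
  have h2 : (2 : F) ≠ 0 := by
    intro h20
    have h3 := FiniteField.even_card_of_char_two (F := F) (by
      rw [ringChar.eq_iff]
      exact CharTwo.of_one_ne_zero_of_two_eq_zero one_ne_zero h20)
    rw [Nat.odd_iff] at ho
    omega
  rw [← Nat.card_eq_fintype_card] at ho
  obtain ⟨o, ho', hcard⟩ := order_eq ho
  have hf := frame F
  have hi : ∀ {w : List ℕ} {σ : Equiv.Perm (Fin 8)}, (∀ i ∈ w, i < 8) → chk w σ = true → σ ∈ hf.pi.range := by
    intro w σ hw hc
    obtain ⟨g, hg⟩ := isPerm_of (K := F) hw hc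
    exact hf.mem_range hg
  refine hf.false_of h' h2 (hf.odd_index ho' (c := 64) (by norm_num) ?_ ?_) ?_
  · rw [mul_one, ← hcard]
    exact Cfsg.Agent.S1065.result Nat.card_eq_fintype_card.symm
  · exact dvd64 (hi (ltw _ (by simp)) chkE1) (hi (ltw _ (by simp)) chkE2) (hi (ltw _ (by simp)) chkE3)
      (hi (ltw _ (by simp)) chkA) (hi (ltw _ (by simp)) chkB)
  · have h3 := hf.card_ker_le_one 0
    calc _ ≤ 2 ^ (8 - 1) * 2 ^ 8 := Nat.mul_le_mul_right _ h3
      _ < _ := by norm_num

end Cfsg.Agent.H512.LinFour.FrameE8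
end

private theorem dce_bcb8256ba726 : _root_.True := by
  try have : _root_.True := by simp only [_root_.Cfsg.Agent.H512.LinFour.FrameE8.chkT.eq_1]
  try have : _root_.True := by simp only [_root_.Cfsg.Agent.H512.LinFour.FrameE8.chk.eq_1]
  try have : _root_.True := by simp only [_root_.Cfsg.Lie.ChevalleyDatum.commWord.eq_1]
  exact _root_.True.intro
end
end
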